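import Mathlib.NumberTheory.Padics.RingHoms
import Mathlib.LinearAlgebra.FreeModule.PID
import Mathlib.LinearAlgebra.Dimension.Localization
import Mathlib.LinearAlgebra.FreeModule.Finite.Basic

/-!
# Ranks of modules over the `l`-adic integers

* `finrank_eq`: the rank of a finite torsion-free module is computed by counting the elements modulo `l`;
* `finrank_quot_le_sum`: the corank of an intersection of submodules;
* `sum_le_finrank_quot`: the corank of an intersection of independent submodules.
-/

set_option autoImplicit false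

namespace K545.PadicRank

variable (l : ℕ) [Fact l.Prime] (M : Type*) [AddCommGroup M] [Module ℤ_[l] M]

theorem isTorsionFree (htf : ∀ x : M, (l : ℤ_[l]) • x = 0 → x = 0) : Module.IsTorsionFree ℤ_[l] M := by
  have h : ∀ (n : ℕ) (x : M), ((l : ℤ_[l]) ^ n) • x = 0 → x = 0 := by
    intro n
    induction n with
    | zero => intro x hx; simpa using hx
    | succ n ih =>
      intro x hx
      rw [pow_succ, mul_smul] at hx
      exact htf x (ih _ hx)
  rw [Module.isTorsionFree_iff_smul_eq_zero]
  intro a x hax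
  by_cases ha : a = 0
  · exact Or.inl ha
  right
  rw [PadicInt.unitCoeff_spec ha, mul_smul, IsUnit.smul_eq_zero (Units.isUnit _)] at hax
  exact h _ _ hax

theorem finrank_eq [Module.Finite ℤ_[l] M] (htf : ∀ x : M, (l : ℤ_[l]) • x = 0 → x = 0)
    {X : Type*} [AddGroup X] (ψ : M →+ X) (hψ : ∀ x, ψ x = 0 ↔ ∃ y, x = (l : ℤ_[l]) • y) (a : ℕ)
    (ha : Nat.card ψ.range = l ^ a) : Module.finrank ℤ_[l] M = a := by
  have h1 := isTorsionFree l M htf
  have h2 : Module.Free ℤ_[l] M := inferInstance
  let n := Module.finrank ℤ_[l] M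
  let b : M ≃ₗ[ℤ_[l]] (Fin n → ℤ_[l]) := (Module.finBasis ℤ_[l] M).equivFun
  let φ : M →+ (Fin n → ZMod l) :=
    { toFun := fun x i => PadicInt.toZMod (b x i)
      map_zero' := by ext i; simp
      map_add' := fun x y => by ext i; simp }
  have hφs : Function.Surjective φ := by
    intro y
    choose z hz using fun i => ZMod.ringHom_surjective (PadicInt.toZMod (p := l)) (y i)
    refine ⟨b.symm z, ?_⟩
    ext i
    change PadicInt.toZMod (b (b.symm z) i) = y i
    rw [b.apply_symm_apply, hz]
  have hφk : φ.ker = ψ.ker := by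
    ext x
    rw [AddMonoidHom.mem_ker, AddMonoidHom.mem_ker, hψ]
    constructor
    · intro h
      have h3 : ∀ i, ∃ c : ℤ_[l], b x i = l * c := by
        intro i
        have h4 : PadicInt.toZMod (b x i) = 0 := congrFun h i
        have h5 : b x i ∈ RingHom.ker (PadicInt.toZMod (p := l)) := h4
        rw [PadicInt.ker_toZMod, PadicInt.maximalIdeal_eq_span_p, Ideal.mem_span_singleton] at h5
        exact h5
      choose c hc using h3
      refine ⟨b.symm c, ?_⟩
      apply b.injective
      rw [map_smul, b.apply_symm_apply]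
      ext i
      rw [hc]
      rfl
    · rintro ⟨y, rfl⟩
      ext i
      change PadicInt.toZMod (b ((l : ℤ_[l]) • y) i) = 0
      rw [map_smul, Pi.smul_apply, smul_eq_mul, map_mul, map_natCast, CharP.cast_eq_zero, zero_mul]
  have e1 := (QuotientAddGroup.quotientKerEquivOfSurjective φ hφs).toEquiv
  have e2 := (QuotientAddGroup.quotientKerEquivRange ψ).toEquiv
  have h6 : Nat.card (M ⧸ φ.ker) = l ^ n := by
    rw [Nat.card_congr e1]
    simp
  have h7 : Nat.card (M ⧸ ψ.ker) = l ^ a := by
    rw [Nat.card_congr e2, ha]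
  rw [hφk, h7] at h6
  exact (Nat.pow_right_injective (Fact.out : l.Prime).two_le h6).symm

section Quot

variable {l M} [Module.Finite ℤ_[l] M]

theorem quot_add (N : Submodule ℤ_[l] M) :
    Module.finrank ℤ_[l] (M ⧸ N) + Module.finrank ℤ_[l] N = Module.finrank ℤ_[l] M :=
  N.finrank_quotient_add_finrank

theorem quot_inf_add_quot_sup (A B : Submodule ℤ_[l] M) :
    Module.finrank ℤ_[l] (M ⧸ (A ⊓ B)) + Module.finrank ℤ_[l] (M ⧸ (A ⊔ B)) =
      Module.finrank ℤ_[l] (M ⧸ A) + Module.finrank ℤ_[l] (M ⧸ B) := by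
  have h1 := quot_add (l := l) A
  have h2 := quot_add (l := l) B
  have h3 := quot_add (l := l) (A ⊓ B)
  have h4 := quot_add (l := l) (A ⊔ B)
  have h5 : Module.finrank ℤ_[l] ↥(A ⊔ B) + Module.finrank ℤ_[l] ↥(A ⊓ B) =
      Module.finrank ℤ_[l] A + Module.finrank ℤ_[l] B := by
    have h6 := Submodule.rank_sup_add_rank_inf_eq (R := ℤ_[l]) A B
    rw [← Module.finrank_eq_rank, ← Module.finrank_eq_rank, ← Module.finrank_eq_rank,
      ← Module.finrank_eq_rank] at h6
    exact_mod_cast h6
  omega

theorem quot_mono {A B : Submodule ℤ_[l] M} (h : A ≤ B) :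
    Module.finrank ℤ_[l] (M ⧸ B) ≤ Module.finrank ℤ_[l] (M ⧸ A) :=
  LinearMap.finrank_le_finrank_of_surjective (f := Submodule.factor h) (Submodule.factor_surjective h)

omit [Module.Finite ℤ_[l] M] in
theorem quot_top : Module.finrank ℤ_[l] (M ⧸ (⊤ : Submodule ℤ_[l] M)) = 0 :=
  Module.finrank_zero_of_subsingleton

/-- The corank of an intersection of submodules is at most the sum of the coranks. -/
theorem finrank_quot_le_sum {ι : Type*} (s : Finset ι) (T : ι → Submodule ℤ_[l] M) (P : Submodule ℤ_[l] M)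
    (hP : ∀ x : M, (∀ i ∈ s, x ∈ T i) → x ∈ P) :
    Module.finrank ℤ_[l] (M ⧸ P) ≤ ∑ i ∈ s, Module.finrank ℤ_[l] (M ⧸ T i) := by
  classical
  have key : ∀ s : Finset ι, Module.finrank ℤ_[l] (M ⧸ s.inf T) ≤
      ∑ i ∈ s, Module.finrank ℤ_[l] (M ⧸ T i) := by
    intro s
    induction s using Finset.induction_on with
    | empty => rw [Finset.inf_empty, quot_top, Finset.sum_empty]
    | insert a s ha ih =>
      rw [Finset.inf_insert, Finset.sum_insert ha]
      have h1 := quot_inf_add_quot_sup (l := l) (T a) (s.inf T)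
      omega
  refine le_trans (quot_mono ?_) (key s)
  intro x hx
  exact hP x fun i hi => Finset.inf_le (f := T) hi hx

/-- The corank of an intersection of independent submodules is at least the sum of the coranks. -/
theorem sum_le_finrank_quot {ι : Type*} (s : Finset ι) (T : ι → Submodule ℤ_[l] M)
    (hsup : ∀ (a : ι) (s : Finset ι), a ∉ s → T a ⊔ s.inf T = ⊤) (P : Submodule ℤ_[l] M)
    (hP : ∀ x ∈ P, ∀ i ∈ s, x ∈ T i) :
    ∑ i ∈ s, Module.finrank ℤ_[l] (M ⧸ T i) ≤ Module.finrank ℤ_[l] (M ⧸ P) := by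
  classical
  have key : ∀ s : Finset ι, Module.finrank ℤ_[l] (M ⧸ s.inf T) =
      ∑ i ∈ s, Module.finrank ℤ_[l] (M ⧸ T i) := by
    intro s
    induction s using Finset.induction_on with
    | empty => rw [Finset.inf_empty, quot_top, Finset.sum_empty]
    | insert a s ha ih =>
      rw [Finset.inf_insert, Finset.sum_insert ha]
      have h1 := quot_inf_add_quot_sup (l := l) (T a) (s.inf T)
      rw [hsup a s ha, quot_top] at h1
      omega
  rw [← key s]
  refine quot_mono ?_
  intro x hx
  rw [Submodule.mem_finsetInf]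
  exact hP x hx

end Quot

end K545.PadicRank
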