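import Groth.Agent.Neron.K545.Indep
import Groth.Agent.Neron.K489.NcdMain

/-!
# Fixed vectors at a point are fixed at its generizations

`fixT_le`: `S` strictly henselian over `R`, `D` a strictly henselian discrete valuation ring dominating `S`, `E` a
strictly henselian discrete valuation ring containing `S`: the vectors fixed by the Galois group of `D` are
fixed by the Galois group of `E`.
-/

set_option autoImplicit false
universe u

open CategoryTheory CategoryTheory.Limits AlgebraicGeometry MonObj
open AbDual K125.Pts K125.Tors K125.Tate K125.Gal K489.NcdDom K489.NcdCmp K489.NcdSat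
open K545.TatFun K545.TatBase

namespace K545.FixLe

variable {R K Ω : Type u} [CommRing R] [IsDomain R] [IsNoetherianRing R] [HenselianLocalRing R]
  [IsSepClosed (IsLocalRing.ResidueField R)] [Field K] [Algebra R K] [IsFractionRing R K]
  [Field Ω] [Algebra K Ω] [IsSepClosure K Ω] [IsGalois K Ω] [IsSepClosed Ω]
  (N : Over (Spec (CommRingCat.of R))) [GrpObj N] [IsCommMonObj N] [Smooth N.hom] [IsSeparated N.hom]
  [QuasiCompact N.hom] (l : ℕ) [hl : Fact l.Prime]

theorem natCast_residue_ne_zero {A B : Type*} [CommRing A] [CommRing B] [IsLocalRing B] (f : A →+* B) {n : ℕ}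
    (h : IsUnit (n : A)) : (n : IsLocalRing.ResidueField B) ≠ 0 := by
  have h1 := (h.map f).map (IsLocalRing.residue B)
  rw [map_natCast, map_natCast] at h1
  exact h1.ne_zero

theorem fixT_le (hlu : IsUnit (l : R)) (hsab : SGA7.FibresUnipotentRankZero N)
    (hp : IsProper (pullback.snd N.hom (Spec.map (CommRingCat.ofHom (algebraMap R K)))))
    (hgi : GeometricallyIntegral (pullback.snd N.hom (Spec.map (CommRingCat.ofHom (algebraMap R K)))))
    (S : Type u) [CommRing S] [IsDomain S] [IsNoetherianRing S] [HenselianLocalRing S]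
    [IsSepClosed (IsLocalRing.ResidueField S)] [Algebra R S] (hRS : Function.Injective (algebraMap R S))
    (hS : ¬ IsField S) (D E : Dom R K Ω) (gD : S →ₐ[R] D.V) (hgD : Function.Injective gD)
    (hgD' : IsLocalHom (gD : S →+* D.V)) (gE : S →ₐ[R] E.V) (hgE : Function.Injective gE) :
    fixT N l D ≤ fixT N l E := by
  intro z hz
  have hu : IsUnit (l : D.V) := by
    have := hlu.map (algebraMap R D.V)
    rwa [map_natCast] at this
  have h1 : upT N l D hu z ∈ LinearMap.range (ofVT N l D) := by
    rw [range_ofVT N l D hsab hp hgi hu]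
    exact ⟨z, hz, rfl⟩
  obtain ⟨w, hw⟩ := h1
  -- the algebra structures
  let _ : Algebra R Ω := (str (algebraMap R K) Ω).toAlgebra
  have t1 : IsScalarTower R K Ω := IsScalarTower.of_algebraMap_eq fun _ => rfl
  let _ : Algebra R D.Φ := (strΦ D).toAlgebra
  let _ : Algebra R E.Φ := (strΦ E).toAlgebra
  let aD : D.V →ₐ[R] D.Φ := { (algebraMap D.F D.Φ).comp (algebraMap D.V D.F) with commutes' := fun _ => rfl }
  let aE : E.V →ₐ[R] E.Φ := { (algebraMap E.F E.Φ).comp (algebraMap E.V E.F) with commutes' := fun _ => rfl }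
  let eD : Ω →ₐ[R] D.Φ := { algebraMap Ω D.Φ with commutes' := fun x => D.commR x }
  let eE : Ω →ₐ[R] E.Φ := { algebraMap Ω E.Φ with commutes' := fun x => E.commR x }
  have haD : Function.Injective aD := fun a b h => IsFractionRing.injective D.V D.F ((algebraMap D.F D.Φ).injective h)
  have haE : Function.Injective aE := fun a b h => IsFractionRing.injective E.V E.F ((algebraMap E.F E.Φ).injective h)
  have hlS := natCast_residue_ne_zero (algebraMap R S) hlu
  obtain ⟨v, hv⟩ := (tres_bijective N l gD hgD' hlS).2 w
  have h2 : tres N l (eD.restrictScalars R) z ∈ LinearMap.range (tres N l ((aD.comp gD).restrictScalars R)) := by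
    refine ⟨v, ?_⟩
    have h3 : (aD.comp gD).restrictScalars R = aD.comp gD := rfl
    rw [h3, tres_comp, hv]
    exact hw
  obtain ⟨v', hv'⟩ := K545.Indep.indep N hsab l R K Ω S hp hgi (by
    have := natCast_residue_ne_zero (RingHom.id R) hlu
    exact this) hRS hS D.Φ E.Φ (aD.comp gD) (haD.comp hgD) eD (aE.comp gE) (haE.comp hgE) eE z h2
  rw [mem_fixT']
  intro k τ
  rw [act_iff]
  have h4 : up N E (co z k) = ofV N E (co (tres N l gE v') k) := by
    have h5 := congrArg (fun y => co y k) hv'
    have h6 : (aE.comp gE).restrictScalars R = aE.comp gE := rfl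
    rw [h6, tres_comp] at h5
    exact h5.symm
  rw [h4]
  exact actΦ_ofV N E τ _

end K545.FixLe
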