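import Groth.Agent.Neron.K545.TatBase

/-!
# The fixed part of the Tate module at a point of the base is independent of choices

`B` a strictly henselian Noetherian local domain with fraction field `K`, `Ω` a separable closure of `K`,
`V` a strictly henselian Noetherian local domain over `B`.  The elements of the Tate module of `Ω`-points which
come from `V` in a common separably closed field `Ξ` do not depend on `Ξ` and the embeddings.
-/

set_option autoImplicit false
universe u

open CategoryTheory CategoryTheory.Limits AlgebraicGeometry MonObj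
open MonoidalCategory CartesianMonoidalCategory
open Groth.Agent.Sga7.H729.Dict Groth.Agent.Sga67.TorsionLift
open K486.TatePts K486.GalPts AbDual K545.TatFun K545.TatBase

namespace K545.Indep

theorem exists_frac (V : Type u) [CommRing V] [IsDomain V] :
    ∃ (F : Type u) (_ : Field F) (_ : Algebra V F), IsFractionRing V F :=
  ⟨FractionRing V, inferInstance, inferInstance, inferInstance⟩

theorem exists_sepClosure (F : Type u) [Field F] :
    ∃ (Φ : Type u) (_ : Field Φ) (_ : Algebra F Φ), IsSepClosure F Φ :=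
  ⟨SeparableClosure F, inferInstance, inferInstance, inferInstance⟩

/-- Two embeddings of a normal extension differ by an automorphism. -/
theorem exists_gal (K Ω Ξ : Type u) [Field K] [Field Ω] [Field Ξ] [Algebra K Ω] [Algebra K Ξ] [Normal K Ω]
    (e e' : Ω →ₐ[K] Ξ) : ∃ σ : Ω ≃ₐ[K] Ω, ∀ x, e' x = e (σ x) := by
  let _ : Algebra Ω Ξ := (e : Ω →+* Ξ).toAlgebra
  have hT : IsScalarTower K Ω Ξ := IsScalarTower.of_algebraMap_eq fun a => (e.commutes a).symm
  refine ⟨e'.restrictNormal' Ω, fun x => ?_⟩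
  exact (AlgHom.restrictNormal_commutes e' Ω x).symm

theorem exists_embedding (B K Ω V F Φ Ξ : Type u) [CommRing B] [IsDomain B] [Field K] [Algebra B K]
    [IsFractionRing B K] [Field Ω] [Algebra K Ω] [Normal K Ω] [Algebra B Ω] [IsScalarTower B K Ω]
    [CommRing V] [IsDomain V] [Algebra B V] [Field F] [Algebra V F] [IsFractionRing V F] [Algebra K F]
    (hBF : ∀ b : B, algebraMap K F (algebraMap B K b) = algebraMap V F (algebraMap B V b))
    [Field Φ] [Algebra F Φ] [Algebra.IsSeparable F Φ] [Algebra K Φ] [IsScalarTower K F Φ]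
    [Field Ξ] [IsSepClosed Ξ] [Algebra B Ξ] (ω : Ω →ₐ[K] Φ)
    (a : V →ₐ[B] Ξ) (ha : Function.Injective a) (e : Ω →ₐ[B] Ξ) :
    ∃ (b : Φ →+* Ξ) (σ : Ω ≃ₐ[K] Ω), (∀ v, b (algebraMap F Φ (algebraMap V F v)) = a v) ∧
      ∀ x, e x = b (ω (σ x)) := by
  let _ : Algebra F Ξ := (IsFractionRing.lift (A := V) (K := F) (g := (a : V →+* Ξ)) ha).toAlgebra
  have hF : ∀ v, algebraMap F Ξ (algebraMap V F v) = a v := fun v => IsFractionRing.lift_algebraMap ha v
  let b : Φ →ₐ[F] Ξ := IsSepClosed.lift
  let _ : Algebra K Ξ := ((algebraMap F Ξ).comp (algebraMap K F)).toAlgebra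
  have hK : (algebraMap K Ξ) = ((e : Ω →+* Ξ).comp (algebraMap K Ω)) := by
    apply IsLocalization.ringHom_ext (nonZeroDivisors B)
    ext x
    change algebraMap F Ξ (algebraMap K F (algebraMap B K x)) = e (algebraMap K Ω (algebraMap B K x))
    rw [hBF, hF, AlgHom.commutes, ← IsScalarTower.algebraMap_apply B K Ω, AlgHom.commutes]
  let e₁ : Ω →ₐ[K] Ξ := { (e : Ω →+* Ξ) with commutes' := fun k => (congrArg (fun f => f k) hK).symm }
  let e₂ : Ω →ₐ[K] Ξ := { (b : Φ →+* Ξ).comp (ω : Ω →+* Φ) with
    commutes' := fun k => by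
      change b (ω (algebraMap K Ω k)) = algebraMap F Ξ (algebraMap K F k)
      rw [ω.commutes, IsScalarTower.algebraMap_apply K F Φ, b.commutes] }
  obtain ⟨σ, hσ⟩ := exists_gal K Ω Ξ e₂ e₁
  refine ⟨(b : Φ →+* Ξ), σ, fun v => ?_, fun x => hσ x⟩
  change b (algebraMap F Φ (algebraMap V F v)) = a v
  rw [b.commutes, hF]

variable {R : Type u} [CommRing R]
variable (N : Over (Spec (CommRingCat.of R))) [GrpObj N] [IsCommMonObj N] [Smooth N.hom] [IsSeparated N.hom]
  [QuasiCompact N.hom] (hsab : SGA7.FibresUnipotentRankZero N) (l : ℕ) [Fact l.Prime]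

/-- The ring map between `R`-algebras fixing a subalgebra, as an `R`-algebra map. -/
def ofB (B : Type u) {L L' : Type u} [CommRing B] [CommRing L] [CommRing L'] [Algebra R B]
    [Algebra B L] [Algebra R L] [IsScalarTower R B L] [Algebra B L'] [Algebra R L'] [IsScalarTower R B L']
    (f : L →+* L') (hf : ∀ b : B, f (algebraMap B L b) = algebraMap B L' b) : L →ₐ[R] L' :=
  { f with
    commutes' := fun r => by
      change f (algebraMap R L r) = algebraMap R L' r
      rw [IsScalarTower.algebraMap_apply R B L, hf, ← IsScalarTower.algebraMap_apply] }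

include hsab in
theorem indep (B K Ω V : Type u) [CommRing B] [IsDomain B] [IsNoetherianRing B] [HenselianLocalRing B]
    [IsSepClosed (IsLocalRing.ResidueField B)] [Field K] [Algebra B K] [IsFractionRing B K]
    [Field Ω] [Algebra K Ω] [IsSepClosure K Ω] [Algebra R B] [Algebra R K] [IsScalarTower R B K]
    [Algebra R Ω] [IsScalarTower R K Ω] [Algebra B Ω] [IsScalarTower B K Ω] [IsScalarTower R B Ω]
    (hp : IsProper (pullback.snd N.hom (Spec.map (CommRingCat.ofHom (algebraMap R K)))))
    (hgi : GeometricallyIntegral (pullback.snd N.hom (Spec.map (CommRingCat.ofHom (algebraMap R K)))))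
    (hlp : (l : IsLocalRing.ResidueField B) ≠ 0)
    [CommRing V] [IsDomain V] [IsNoetherianRing V] [HenselianLocalRing V]
    [IsSepClosed (IsLocalRing.ResidueField V)] [Algebra B V] [Algebra R V] [IsScalarTower R B V]
    (hBV : Function.Injective (algebraMap B V)) (hfield : ¬ IsField V)
    (Ξ Ξ' : Type u) [Field Ξ] [IsSepClosed Ξ] [Algebra B Ξ] [Algebra R Ξ] [IsScalarTower R B Ξ]
    [Field Ξ'] [IsSepClosed Ξ'] [Algebra B Ξ'] [Algebra R Ξ'] [IsScalarTower R B Ξ']
    (a : V →ₐ[B] Ξ) (ha : Function.Injective a) (e : Ω →ₐ[B] Ξ)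
    (a' : V →ₐ[B] Ξ') (ha' : Function.Injective a') (e' : Ω →ₐ[B] Ξ')
    (z : TM N l Ω) (h : tres N l (e.restrictScalars R) z ∈ LinearMap.range (tres N l (a.restrictScalars R))) :
    tres N l (e'.restrictScalars R) z ∈ LinearMap.range (tres N l (a'.restrictScalars R)) := by
  have hgalK : IsGalois K Ω := IsSepClosure.isGalois
  obtain ⟨F, _, _, _⟩ := exists_frac V
  obtain ⟨Φ, _, _, hΦ⟩ := exists_sepClosure F
  have hΦ1 : IsSepClosed Φ := hΦ.sep_closed
  have hΦ2 : Algebra.IsSeparable F Φ := hΦ.separable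
  have hΦ3 : IsGalois F Φ := IsSepClosure.isGalois
  let ψ : K →+* F := IsFractionRing.map (A := B) (B := V) (K := K) (L := F) hBV
  let _ : Algebra K F := ψ.toAlgebra
  have hBF : ∀ b : B, algebraMap K F (algebraMap B K b) = algebraMap V F (algebraMap B V b) := fun b =>
    IsLocalization.map_eq (M := nonZeroDivisors B) (T := nonZeroDivisors V) (S := K) (Q := F)
      (nonZeroDivisors_le_comap_nonZeroDivisors_of_injective _ hBV) b
  let _ : Algebra K Φ := ((algebraMap F Φ).comp (algebraMap K F)).toAlgebra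
  have t1 : IsScalarTower K F Φ := IsScalarTower.of_algebraMap_eq fun _ => rfl
  let _ : Algebra R F := ((algebraMap V F).comp (algebraMap R V)).toAlgebra
  have t2 : IsScalarTower R V F := IsScalarTower.of_algebraMap_eq fun _ => rfl
  let _ : Algebra R Φ := ((algebraMap F Φ).comp (algebraMap R F)).toAlgebra
  have t3 : IsScalarTower R F Φ := IsScalarTower.of_algebraMap_eq fun _ => rfl
  have t4 : IsScalarTower R K F := IsScalarTower.of_algebraMap_eq fun r => by
    rw [IsScalarTower.algebraMap_apply R B K, hBF, ← IsScalarTower.algebraMap_apply R B V]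
    rfl
  let _ : Algebra B Φ := ((algebraMap F Φ).comp ((algebraMap V F).comp (algebraMap B V))).toAlgebra
  have t5 : IsScalarTower R B Φ := IsScalarTower.of_algebraMap_eq fun r => by
    change algebraMap F Φ (algebraMap V F (algebraMap R V r)) =
      algebraMap F Φ (algebraMap V F (algebraMap B V (algebraMap R B r)))
    rw [← IsScalarTower.algebraMap_apply R B V]
  have t6 : IsScalarTower B K Φ := IsScalarTower.of_algebraMap_eq fun b => by
    change algebraMap F Φ (algebraMap V F (algebraMap B V b)) = algebraMap F Φ (algebraMap K F (algebraMap B K b))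
    rw [hBF]
  have hsep : Algebra.IsSeparable K Ω := IsSepClosure.separable
  let ω : Ω →ₐ[K] Φ := IsSepClosed.lift
  obtain ⟨b, σ, hb1, hb2⟩ := exists_embedding B K Ω V F Φ Ξ hBF ω a ha e
  obtain ⟨b', σ', hb1', hb2'⟩ := exists_embedding B K Ω V F Φ Ξ' hBF ω a' ha' e'
  -- the maps over `R`
  have hbB : ∀ x : B, b (algebraMap B Φ x) = algebraMap B Ξ x := fun x => (hb1 _).trans (a.commutes x)
  have hbB' : ∀ x : B, b' (algebraMap B Φ x) = algebraMap B Ξ' x := fun x => (hb1' _).trans (a'.commutes x)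
  let β : Φ →ₐ[R] Ξ := ofB B b hbB
  let β' : Φ →ₐ[R] Ξ' := ofB B b' hbB'
  let w : Ω →ₐ[R] Φ := ofB B (ω : Ω →+* Φ) (fun x => by
    rw [IsScalarTower.algebraMap_apply B K Ω]
    exact (ω.commutes _).trans (IsScalarTower.algebraMap_apply B K Φ x).symm)
  let α : V →ₐ[R] Φ := ofB B ((algebraMap F Φ).comp (algebraMap V F)) (fun _ => rfl)
  let g : (Ω ≃ₐ[K] Ω) → (Ω →ₐ[R] Ω) := fun τ => (τ : Ω →ₐ[K] Ω).restrictScalars R
  have hα : β.comp α = a.restrictScalars R := AlgHom.ext hb1
  have hα' : β'.comp α = a'.restrictScalars R := AlgHom.ext hb1'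
  have he : (β.comp w).comp (g σ) = e.restrictScalars R := AlgHom.ext fun x => (hb2 x).symm
  have he' : (β'.comp w).comp (g σ') = e'.restrictScalars R := AlgHom.ext fun x => (hb2' x).symm
  have hβ : Function.Injective (tres N l β) :=
    tmap_injective' _ (TatBase.res_injective N β b.injective)
  have hw : Function.Injective (tres N l w) :=
    tmap_injective' _ (TatBase.res_injective N w (ω : Ω →+* Φ).injective)
  obtain ⟨v, hv⟩ := h
  -- `z₁ = σ z` comes from `V`
  let z₁ := tres N l (g σ) z
  have h1 : tres N l w z₁ = tres N l α v := by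
    apply hβ
    rw [← tres_comp, ← tres_comp, ← tres_comp, he, hα, hv]
  -- restriction of automorphisms
  have hrs : ∀ τ : Φ ≃ₐ[F] Φ, ∃ τ' : Ω ≃ₐ[K] Ω,
      ((τ : Φ →ₐ[F] Φ).restrictScalars R).comp w = w.comp (g τ') := by
    intro τ
    obtain ⟨τ', hτ'⟩ := exists_gal K Ω Φ ω (((τ : Φ →ₐ[F] Φ).restrictScalars K).comp ω)
    exact ⟨τ', AlgHom.ext hτ'⟩
  let gm : Ω ≃ₐ[K] Ω := σ' * σ⁻¹
  let z₂ := tres N l (g gm) z₁
  have hz₂ : tres N l (g σ') z = z₂ := by
    have hg : g σ' = (g gm).comp (g σ) := by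
      ext x
      change σ' x = σ' (σ⁻¹ (σ x))
      rw [← AlgEquiv.mul_apply σ⁻¹ σ, inv_mul_cancel, AlgEquiv.one_apply]
    change _ = tres N l (g gm) (tres N l (g σ) z)
    rw [← tres_comp, hg]
  have h2 : ∀ τ : Φ ≃ₐ[F] Φ, tres N l ((τ : Φ →ₐ[F] Φ).restrictScalars R) (tres N l w z₂) = tres N l w z₂ := by
    intro τ
    obtain ⟨τ', hτ'⟩ := hrs τ
    have h3 : tres N l (g τ') z₁ = z₁ := by
      apply hw
      rw [← tres_comp, ← hτ', tres_comp, h1, ← tres_comp]
      congr 2
      ext v
      exact τ.commutes _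
    have h4 := level_two N hsab l B K Ω hp hgi hlp z₁ τ' gm
    have h5 : tres N l (g τ') z₂ = z₂ := by
      have h6 : tres N l (g τ') (z₂ - z₁) = z₂ - z₁ := h4
      rw [map_sub, h3] at h6
      exact sub_left_injective h6
    rw [← tres_comp, hτ', tres_comp, h5]
  have hlV : (l : IsLocalRing.ResidueField V) ≠ 0 := by
    have hu : IsUnit (l : B) := by
      by_contra hcon
      apply hlp
      rw [← map_natCast (IsLocalRing.residue B)]
      exact (IsLocalRing.residue_eq_zero_iff _).2 hcon
    have h7 := (hu.map (algebraMap B V)).map (IsLocalRing.residue V)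
    rw [map_natCast, map_natCast] at h7
    exact h7.ne_zero
  have hpF : IsProper (pullback.snd N.hom (Spec.map (CommRingCat.ofHom (algebraMap R F)))) ∧
      GeometricallyIntegral (pullback.snd N.hom (Spec.map (CommRingCat.ofHom (algebraMap R F)))) := by
    have hw : Spec.map (CommRingCat.ofHom (algebraMap R F)) =
        Spec.map (CommRingCat.ofHom (algebraMap K F)) ≫ Spec.map (CommRingCat.ofHom (algebraMap R K)) := by
      rw [← Spec.map_comp, ← CommRingCat.ofHom_comp, ← IsScalarTower.algebraMap_eq]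
    have hsq := (IsPullback.of_hasPullback (pullback.snd N.hom (Spec.map (CommRingCat.ofHom (algebraMap R K))))
      (Spec.map (CommRingCat.ofHom (algebraMap K F)))).paste_horiz
        (IsPullback.of_hasPullback N.hom (Spec.map (CommRingCat.ofHom (algebraMap R K))))
    rw [← hw] at hsq
    have hsq2 := IsPullback.of_hasPullback N.hom (Spec.map (CommRingCat.ofHom (algebraMap R F)))
    constructor
    · rw [← hsq2.isoIsPullback_hom_snd _ _ hsq]
      infer_instance
    · rw [← hsq2.isoIsPullback_hom_snd _ _ hsq]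
      exact (MorphismProperty.cancel_left_of_respectsIso @GeometricallyIntegral _ _).2 inferInstance
  obtain ⟨v', hv'⟩ := mem_range_of_fixed N hsab l V F Φ hfield hpF.1 hpF.2 hlV (tres N l w z₂) h2 α
    (fun _ => rfl)
  refine ⟨v', ?_⟩
  rw [← hα', tres_comp, hv', ← he', tres_comp, tres_comp, hz₂]

end K545.Indep
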