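import Groth.Agent.Neron.K489.NcdMain
import Groth.Agent.Neron.K125.RkFib
import Groth.Agent.Neron.K545.PadicRank
import Groth.Agent.Neron.K486.DomDvr
import Groth.Agent.Neron.K486.LevelMain

/-!
# Toric ranks and fixed vectors in the strict normal crossing situation

* `finrank_fixT_add`: `rank T^(Gal(Φ/F)) + (toric rank at t) = rank T` for a strictly henselian discrete valuation
  ring centred at `t`;
* `mem_fixT_of_forall`: vectors fixed at the branches through `t` are fixed at `t`;
* `quot_le_sum`: the toric rank at `t` is at most the sum of the toric ranks at the branches through `t`.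
-/

set_option autoImplicit false
universe u

open CategoryTheory CategoryTheory.Limits AlgebraicGeometry MonObj
open AbDual K125.Pts K125.Tors K125.Tate K125.Gal K489.NcdDom K489.NcdCmp K489.NcdSat K489.NcdMain

namespace K545.NcdRk

section Quot

variable {R K Ω : Type u} [CommRing R] [IsDomain R] [Field K] [Algebra R K] [IsFractionRing R K]
  [Field Ω] [Algebra K Ω] [IsGalois K Ω] [IsSepClosed Ω]
  (N : Over (Spec (CommRingCat.of R))) [GrpObj N] [IsCommMonObj N] [Smooth N.hom] [IsSeparated N.hom]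
  [QuasiCompact N.hom] (l : ℕ) [hl : Fact l.Prime] (D : Dom R K Ω)
  (hsab : SGA7.FibresUnipotentRankZero N)
  (hp : IsProper (pullback.snd N.hom (Spec.map (CommRingCat.ofHom (algebraMap R K)))))
  (hgi : GeometricallyIntegral (pullback.snd N.hom (Spec.map (CommRingCat.ofHom (algebraMap R K)))))

theorem natCast_ne_zero_of_isUnit {R F : Type*} [CommRing R] [Field F] (f : R →+* F) {n : ℕ}
    (h : IsUnit (n : R)) : (n : F) ≠ 0 := by
  have h1 := h.map f
  rw [map_natCast] at h1
  exact h1.ne_zero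

include hsab hp hgi in
/-- The toric rank at the centre `t` of `V` and the rank of the fixed vectors. -/
theorem finrank_fixT_add (hlR : IsUnit (l : R)) (t : Spec (CommRingCat.of R))
    (ht : (IsLocalRing.maximalIdeal D.V).comap (algebraMap R D.V) = t.asIdeal)
    {T : Over (Spec (CommRingCat.of (AlgebraicClosure ((Spec (CommRingCat.of R)).residueField t))))} [GrpObj T]
    (j : T ⟶ Red.geomFibre t N) {m : ℕ} (hT : Red.IsSplitTorusWith (Fin m → ℤ) T) :
    (IsMonHom j → Mono j → Module.finrank ℤ_[l] (fixT N l D) + m ≤ Module.finrank ℤ_[l] (TT R K Ω N l)) ∧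
    (Red.IsMaximalTorus j → Module.finrank ℤ_[l] (fixT N l D) + m = Module.finrank ℤ_[l] (TT R K Ω N l)) := by
  have hu : IsUnit (l : D.V) := by
    have := hlR.map (algebraMap R D.V)
    rwa [map_natCast] at this
  let Λ := AlgebraicClosure (IsLocalRing.ResidueField D.V)
  let φ : D.V →+* Λ := (algebraMap (IsLocalRing.ResidueField D.V) Λ).comp (IsLocalRing.residue D.V)
  have hφ : IsLocalHom φ := inferInstance
  rw [finrank_fixT N l D hsab hp hgi hu, finrank_V N l D hu Λ φ]
  refine K125.Rk.main hsab hp t (φ.comp (algebraMap R D.V)) ?_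
    (natCast_ne_zero_of_isUnit φ hu) (natCast_ne_zero_of_isUnit (str (algebraMap R K) Ω) hlR) j hT
  apply PrimeSpectrum.ext
  rw [← ht]
  change Ideal.comap (φ.comp (algebraMap R D.V)) (IsLocalRing.maximalIdeal Λ) = _
  rw [← Ideal.comap_comap]
  congr 1
  exact ((IsLocalRing.local_hom_TFAE φ).out 0 4).1 hφ

omit [IsDomain R] [IsFractionRing R K] [IsGalois K Ω] [IsSeparated N.hom] [QuasiCompact N.hom] in
include hsab hp in
theorem finite_TT (hlR : IsUnit (l : R)) : Module.Finite ℤ_[l] (TT R K Ω N l) :=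
  K125.Rk.finite_generic hsab hp (natCast_ne_zero_of_isUnit (str (algebraMap R K) Ω) hlR)

include hsab hp hgi in
/-- The toric rank at the centre `t` of `V` is the corank of the fixed vectors. -/
theorem quot_fixT (hlR : IsUnit (l : R)) (t : Spec (CommRingCat.of R))
    (ht : (IsLocalRing.maximalIdeal D.V).comap (algebraMap R D.V) = t.asIdeal)
    {T : Over (Spec (CommRingCat.of (AlgebraicClosure ((Spec (CommRingCat.of R)).residueField t))))} [GrpObj T]
    (j : T ⟶ Red.geomFibre t N) {m : ℕ} (hT : Red.IsSplitTorusWith (Fin m → ℤ) T) :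
    (IsMonHom j → Mono j → m ≤ Module.finrank ℤ_[l] (TT R K Ω N l ⧸ fixT N l D)) ∧
    (Red.IsMaximalTorus j → m = Module.finrank ℤ_[l] (TT R K Ω N l ⧸ fixT N l D)) := by
  have hfin := finite_TT (K := K) (Ω := Ω) N l hsab hp hlR
  have h1 := finrank_fixT_add N l D hsab hp hgi hlR t ht j hT
  have h2 := PadicRank.quot_add (l := l) (fixT N l D)
  constructor
  · intro a b
    have := h1.1 a b
    omega
  · intro a
    have := h1.2 a
    omega

omit [IsSeparated N.hom] in
include hsab hp in
/-- There is no torus in the geometric generic fibre. -/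
theorem eq_zero_of_generic (Ω : Type u) [Field Ω] [Algebra K Ω] [IsSepClosed Ω] (hlR : IsUnit (l : R)) (t : Spec (CommRingCat.of R)) (ht : t.asIdeal = ⊥)
    {T : Over (Spec (CommRingCat.of (AlgebraicClosure ((Spec (CommRingCat.of R)).residueField t))))} [GrpObj T]
    (j : T ⟶ Red.geomFibre t N) {m : ℕ} (hT : Red.IsSplitTorusWith (Fin m → ℤ) T) (hj : IsMonHom j)
    (hj' : Mono j) : m = 0 := by
  have hl1 := natCast_ne_zero_of_isUnit (str (algebraMap R K) Ω) hlR
  let Λ := AlgebraicClosure Ω
  let θ : Ω →+* Λ := algebraMap Ω Λ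
  have h1 := (K125.Rk.main (N := N) (l := l) (Ω := Ω) hsab hp t (θ.comp (str (algebraMap R K) Ω)) (by
    apply PrimeSpectrum.ext
    rw [ht]
    change Ideal.comap (θ.comp (str (algebraMap R K) Ω)) (IsLocalRing.maximalIdeal Λ) = _
    rw [IsLocalRing.maximalIdeal_eq_bot, ← RingHom.ker_eq_comap_bot, RingHom.ker_eq_bot_iff_eq_zero]
    intro x hx
    have h3 : algebraMap Ω Λ (algebraMap K Ω (algebraMap R K x)) = 0 := hx
    rw [map_eq_zero, map_eq_zero] at h3
    exact (IsFractionRing.injective R K) (by rw [h3, map_zero]))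
    (natCast_ne_zero_of_isUnit (θ.comp (str (algebraMap R K) Ω)) hlR) hl1 j hT).1 hj hj'
  have h2 := (K125.Rk.eqF N l (b := str (algebraMap R K) Ω) θ rfl hl1).finrank_eq
  rw [← h2] at h1
  omega

end Quot

section Main

variable {R K Ω : Type u} [CommRing R] [IsDomain R] [IsNoetherianRing R] [UniqueFactorizationMonoid R]
  [HenselianLocalRing R] [IsSepClosed (IsLocalRing.ResidueField R)] [Field K] [Algebra R K] [IsFractionRing R K]
  [Field Ω] [Algebra K Ω] [Algebra R Ω] [IsScalarTower R K Ω] [IsSepClosure K Ω] [IsGalois K Ω] [IsSepClosed Ω]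
  {n : ℕ} (r : Fin n → R) (hrp : ∀ i, Prime (r i))
  (N : Over (Spec (CommRingCat.of R))) [GrpObj N] [IsCommMonObj N] [Smooth N.hom] [IsSeparated N.hom]
  [QuasiCompact N.hom]
  (hprop : IsProper (pullback.snd N.hom (Spec.map (CommRingCat.ofHom (algebraMap R (Localization.Away (∏ i, r i)))))))
  (l : ℕ) [hl : Fact l.Prime] (hlu : IsUnit (l : R)) (h2 : L2 R K Ω N l)
  (D : Fin n → Dom R K Ω) (hD : ∀ i, Irreducible (algebraMap R (D i).V (r i)))
  (hD' : ∀ i x, ¬ r i ∣ x → IsUnit (algebraMap R (D i).V x))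

include hrp hprop hlu h2 hD hD' in
/-- Vectors fixed at the branches on which `V` does not become trivial are fixed at `V`. -/
theorem mem_fixT_of_forall (E : Dom R K Ω) (I : Set (Fin n))
    (hI : ∀ i ∈ I, IsUnit (algebraMap R E.V (r i))) (z : TT R K Ω N l)
    (hz : ∀ j, j ∉ I → z ∈ fixT N l (D j)) : z ∈ fixT N l E := by
  rw [mem_fixT']
  intro k τ
  refine act_eq_of_roots r hrp N hprop l hlu h2 D hD hD' I (co z k) (co_pow z k)
    (fun j hj τ' => (mem_fixT' N l (D j) z).1 (hz j hj) k τ') (E.res τ)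
    (fun i hi w hw => E.res_eq_of_isUnit (hI i hi) (l ^ k) ?_ hw τ)
  rw [Nat.cast_pow]
  exact hlu.pow k

include hrp hprop hlu h2 hD hD' in
theorem gal_eq_of_forall (g : Ω ≃ₐ[K] Ω) (z : TT R K Ω N l)
    (hz : ∀ j, z ∈ fixT N l (D j)) : gal (algebraMap R K) N l g z = z := by
  refine co_ext fun k => ?_
  rw [co_gal']
  exact act_eq_of_roots r hrp N hprop l hlu h2 D hD hD' ∅ (co z k) (co_pow z k)
    (fun j _ τ' => (mem_fixT' N l (D j) z).1 (hz j) k τ') g (fun i hi => absurd hi (Set.notMem_empty i))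

include hrp hprop hlu h2 hD hD' in
theorem quot_le_sum [Module.Finite ℤ_[l] (TT R K Ω N l)] (E : Dom R K Ω) (s : Finset (Fin n))
    (hI : ∀ i, i ∉ s → IsUnit (algebraMap R E.V (r i))) :
    Module.finrank ℤ_[l] (TT R K Ω N l ⧸ fixT N l E) ≤
      ∑ i ∈ s, Module.finrank ℤ_[l] (TT R K Ω N l ⧸ fixT N l (D i)) := by
  refine PadicRank.finrank_quot_le_sum (l := l) s (fun i => fixT N l (D i)) (fixT N l E) fun x hx => ?_
  refine mem_fixT_of_forall r hrp N hprop l hlu h2 D hD hD' E {i | i ∉ s} (fun i hi => hI i hi) x fun j hj => ?_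
  exact hx j (by simpa using hj)

end Main

end K545.NcdRk
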