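import Groth.Agent.Neron.K545.NcdRk
import Groth.Agent.Neron.K545.Indep
import Groth.Agent.Neron.K489.NcdReg
import Groth.Agent.S2821

/-!
# The toric rank of a fibre is bounded by the toric ranks at the branches through the point

`le_sum_of_dom`, `exists_dom_at`, `exists_setup`, and the proof of the row `S16165`.
-/

set_option autoImplicit false
universe u

open CategoryTheory CategoryTheory.Limits AlgebraicGeometry MonObj
open AbDual K125.Pts K125.Tors K125.Tate K125.Gal K489.NcdDom K489.NcdCmp K489.NcdSat K489.NcdMain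
open K545.NcdRk

namespace K545.RowA

section Dom

variable (R K Ω : Type u) [CommRing R] [IsDomain R] [IsNoetherianRing R] [Field K] [Algebra R K]
  [IsFractionRing R K] [Field Ω] [Algebra K Ω] [IsSepClosure K Ω]

/-- A strictly henselian discrete valuation ring centred at a nonzero prime. -/
theorem exists_dom_at (p : Ideal R) [p.IsPrime] (hp : p ≠ ⊥) :
    ∃ D : Dom R K Ω, (IsLocalRing.maximalIdeal D.V).comap (algebraMap R D.V) = p := by
  let W := Localization.AtPrime p
  have hinj : Function.Injective (algebraMap R W) :=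
    IsLocalization.injective W p.primeCompl_le_nonZeroDivisors
  have hW : ¬ IsField W := by
    intro h
    apply hp
    have h1 : Ideal.comap (algebraMap R W) (IsLocalRing.maximalIdeal W) = p :=
      Localization.AtPrime.under_maximalIdeal (I := p)
    rw [IsLocalRing.isField_iff_maximalIdeal_eq.1 h, ← RingHom.ker_eq_comap_bot,
      (RingHom.injective_iff_ker_eq_bot _).1 hinj] at h1
    exact h1.symm
  obtain ⟨V, _, _, _, _, _, φ, hφ1, hφ2⟩ := K486.DomDvr.exists_strict_dvr W hW
  obtain ⟨D, e, he⟩ := Dom.exists_of_hom R K Ω V (φ.comp (algebraMap R W)) (hφ2.comp hinj)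
  refine ⟨D, ?_⟩
  have h1 : algebraMap R D.V = (e : V →+* D.V).comp (φ.comp (algebraMap R W)) :=
    RingHom.ext fun x => (he x).symm
  have h2 : IsLocalHom (e : V →+* D.V) := ⟨fun a ha => (MulEquiv.isUnit_map e).1 ha⟩
  have h3 : (IsLocalRing.maximalIdeal D.V).comap (e : V →+* D.V) = IsLocalRing.maximalIdeal V :=
    ((IsLocalRing.local_hom_TFAE (e : V →+* D.V)).out 0 4).1 h2
  have h4 : (IsLocalRing.maximalIdeal V).comap φ = IsLocalRing.maximalIdeal W :=
    ((IsLocalRing.local_hom_TFAE φ).out 0 4).1 hφ1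
  rw [h1, ← Ideal.comap_comap, ← Ideal.comap_comap, h3, h4]
  exact Localization.AtPrime.under_maximalIdeal

end Dom

theorem comap_eq_span {R V : Type*} [CommRing R] [CommRing V] [IsLocalRing V] (f : R →+* V) {p : R}
    (hp : Irreducible (f p)) (h : ∀ x, ¬ p ∣ x → IsUnit (f x)) :
    (IsLocalRing.maximalIdeal V).comap f = Ideal.span {p} := by
  ext x
  rw [Ideal.mem_comap, IsLocalRing.mem_maximalIdeal, mem_nonunits_iff, Ideal.mem_span_singleton]
  constructor
  · intro h1
    by_contra h2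
    exact h1 (h x h2)
  · rintro ⟨c, rfl⟩ h1
    rw [map_mul] at h1
    exact hp.not_isUnit (isUnit_of_mul_isUnit_left h1)

theorem isUnit_of_notMem {R V : Type*} [CommRing R] [CommRing V] [IsLocalRing V] (f : R →+* V) {p : Ideal R}
    (hp : (IsLocalRing.maximalIdeal V).comap f = p) {x : R} (hx : x ∉ p) : IsUnit (f x) := by
  by_contra h
  apply hx
  rw [← hp, Ideal.mem_comap]
  exact h

theorem exists_prime (κ : Type*) [Field κ] : ∃ l : ℕ, l.Prime ∧ (l : κ) ≠ 0 := by
  by_cases h : ((2 : ℕ) : κ) = 0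
  · refine ⟨3, Nat.prime_three, fun h3 => ?_⟩
    have h1 : ((3 : ℕ) : κ) = ((2 : ℕ) : κ) + 1 := by push_cast; ring
    rw [h1, h, zero_add] at h3
    exact one_ne_zero h3
  · exact ⟨2, Nat.prime_two, h⟩

theorem isUnit_of_residue {R : Type*} [CommRing R] [IsLocalRing R] {l : ℕ}
    (h : (l : IsLocalRing.ResidueField R) ≠ 0) : IsUnit (l : R) := by
  by_contra hcon
  apply h
  rw [← map_natCast (IsLocalRing.residue R)]
  exact (IsLocalRing.residue_eq_zero_iff _).2 hcon


section Row

variable (R : Type u) [CommRing R] [IsDomain R] [IsRegularLocalRing R] [HenselianLocalRing R]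
    [IsSepClosed (IsLocalRing.ResidueField R)]
    {n : ℕ} (r : Fin n → R) (hr : ∀ i, r i ∈ IsLocalRing.maximalIdeal R)
    (hli : LinearIndependent (IsLocalRing.ResidueField R)
      (fun i => (IsLocalRing.maximalIdeal R).toCotangent ⟨r i, hr i⟩))
    (𝒜 : Over (Spec (CommRingCat.of R))) [GrpObj 𝒜] [IsCommMonObj 𝒜]
    [Smooth 𝒜.hom] [IsSeparated 𝒜.hom] [QuasiCompact 𝒜.hom]
    (hsab : SGA7.FibresUnipotentRankZero 𝒜)
    (hprop : IsProper (pullback.snd 𝒜.hom
      (Spec.map (CommRingCat.ofHom (algebraMap R (Localization.Away (∏ i, r i)))))))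
    (hconn : ∀ (L : Type u) [Field L] (φ : R →+* L), φ (∏ i, r i) ≠ 0 →
      ConnectedSpace ↑(pullback 𝒜.hom (Spec.map (CommRingCat.ofHom φ))))
    (ζ : Fin n → ↥(Spec (CommRingCat.of R))) (hζ : ∀ i, (ζ i).asIdeal = Ideal.span {r i})
    (rk : Fin n → ℕ)
    (T : ∀ i, Over (Spec (CommRingCat.of (AlgebraicClosure ((Spec (CommRingCat.of R)).residueField (ζ i))))))
    [∀ i, GrpObj (T i)] (j : ∀ i, T i ⟶ Red.geomFibre (ζ i) 𝒜)
    (hT : ∀ i, Red.IsMaximalTorus (j i)) (hTsplit : ∀ i, Red.IsSplitTorusWith (Fin (rk i) → ℤ) (T i))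

omit [HenselianLocalRing R] [IsSepClosed (IsLocalRing.ResidueField R)] in
include hli in
theorem prod_ne_zero : ∏ i, r i ≠ 0 :=
  Finset.prod_ne_zero_iff.2 fun i _ => (K489.NcdReg.prime_of_li r hr hli i).ne_zero

include hli hsab hprop hconn in
/-- Level two and the generic fibre. -/
theorem gen (K Ω : Type u) [Field K] [Algebra R K] [IsFractionRing R K] [Field Ω] [Algebra K Ω]
    [IsSepClosure K Ω] (l : ℕ) (hl : l.Prime) (hlp : (l : IsLocalRing.ResidueField R) ≠ 0) :
    IsProper (pullback.snd 𝒜.hom (Spec.map (CommRingCat.ofHom (algebraMap R K)))) ∧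
    GeometricallyIntegral (pullback.snd 𝒜.hom (Spec.map (CommRingCat.ofHom (algebraMap R K)))) ∧
    L2 R K Ω 𝒜 l := by
  have ha := prod_ne_zero R r hr hli
  have hp := K489.NcdReg.isProper_gen (IsFractionRing.injective R K) ha 𝒜 hprop
  have hgi := K489.NcdReg.geometricallyIntegral_gen (IsFractionRing.injective R K) ha 𝒜 hconn
  refine ⟨hp, hgi, L2_of_dev 𝒜 l fun ν σ τ x hx => ?_⟩
  have hp' : IsProper ((SGA7.genFib R K).obj 𝒜).hom := hp
  have hgi' : GeometricallyIntegral ((SGA7.genFib R K).obj 𝒜).hom := hgi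
  exact K486.LevelMain.levelTwo R K Ω 𝒜 hsab l hl hlp ν σ τ x hx

open Classical in
include hli hsab hprop hconn hζ hT hTsplit in
theorem rowA (t : ↥(Spec (CommRingCat.of R))) (m : ℕ)
    (Tt : Over (Spec (CommRingCat.of (AlgebraicClosure ((Spec (CommRingCat.of R)).residueField t))))) [GrpObj Tt]
    (jt : Tt ⟶ Red.geomFibre t 𝒜) [IsMonHom jt] [Mono jt] (hTt : Red.IsSplitTorusWith (Fin m → ℤ) Tt) :
    m ≤ ∑ i ∈ Finset.univ.filter (fun i => r i ∈ t.asIdeal), rk i := by
  obtain ⟨l, hlp, hlκ⟩ := exists_prime (IsLocalRing.ResidueField R)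
  have : Fact l.Prime := ⟨hlp⟩
  have hlu : IsUnit (l : R) := isUnit_of_residue hlκ
  obtain ⟨K, _, _, _⟩ := K545.Indep.exists_frac R
  obtain ⟨Ω, _, _, _⟩ := K545.Indep.exists_sepClosure K
  let _ : Algebra R Ω := ((algebraMap K Ω).comp (algebraMap R K)).toAlgebra
  have hTow : IsScalarTower R K Ω := IsScalarTower.of_algebraMap_eq fun _ => rfl
  have hsc : IsSepClosed Ω := IsSepClosure.sep_closed K
  have hgal : IsGalois K Ω := IsSepClosure.isGalois
  have hUFD : UniqueFactorizationMonoid R := (Groth.Agent.S2821.result R).2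
  have hrp := K489.NcdReg.prime_of_li r hr hli
  obtain ⟨hp, hgi, h2⟩ := gen R r hr hli 𝒜 hsab hprop hconn K Ω l hlp hlκ
  by_cases ht : t.asIdeal = ⊥
  · rw [eq_zero_of_generic (K := K) 𝒜 l hsab hp Ω hlu t ht jt hTt inferInstance inferInstance]
    exact Nat.zero_le _
  choose D hD hD' using fun i => Dom.exists_of_prime R K Ω (hrp i)
  obtain ⟨E, hE⟩ := exists_dom_at R K Ω t.asIdeal ht
  have hfin := finite_TT (K := K) (Ω := Ω) 𝒜 l hsab hp hlu
  have h3 := (quot_fixT 𝒜 l E hsab hp hgi hlu t hE jt hTt).1 inferInstance inferInstance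
  refine h3.trans ((quot_le_sum r hrp 𝒜 hprop l hlu h2 D hD hD' E
    (Finset.univ.filter (fun i => r i ∈ t.asIdeal)) fun i hi => ?_).trans ?_)
  · exact isUnit_of_notMem _ hE (by simpa using hi)
  · refine Finset.sum_le_sum fun i _ => le_of_eq ?_
    exact ((quot_fixT 𝒜 l (D i) hsab hp hgi hlu (ζ i)
      ((comap_eq_span _ (hD i) (hD' i)).trans (hζ i).symm) (j i) (hTsplit i)).2 (hT i)).symm

end Row

end K545.RowA
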