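import Groth.Agent.Sga1.StrictReg
import Groth.Agent.S0537
import Groth.Agent.S0538
import Groth.Agent.S0539
import Groth.Agent.S0540
import Groth.Agent.S0541
import Groth.Agent.S0558
import Groth.Agent.S0564
import Groth.Agent.S2743
import Groth.Agent.EGA41.K103.RegPar
import Groth.Agent.Ega4dA.RegQuot
import Groth.Agent.Neron.K489.NcdReg
import Mathlib.RingTheory.KrullDimension.Regular

/-!
# The strict henselization of a regular local ring at a prime

`exists_sh_at`: `R` a regular local ring, `t` a nonzero prime.  There is a strictly henselian Noetherian local domain `S`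
over `R`, centred at `t`, such that the members of a regular system of parameters contained in `t` stay
prime in `S`, with the same trace on `R`.
-/

set_option autoImplicit false
universe u

open IsLocalRing

namespace K545.ShAt

/-- The quotient of a localization. -/
theorem isRegularLocalRing_quotient_localization {R : Type u} [CommRing R] (x : R)
    (hreg : IsRegularLocalRing (R ⧸ Ideal.span {x})) (p : Ideal R) [p.IsPrime] (hx : x ∈ p) :
    IsRegularLocalRing (Localization.AtPrime p ⧸
      Ideal.span {algebraMap R (Localization.AtPrime p) x}) := by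
  set I : Ideal R := Ideal.span {x} with hI
  have hle : I ≤ p := by
    rw [hI, Ideal.span_le]
    rintro _ rfl
    exact hx
  have hmap : Ideal.span {algebraMap R (Localization.AtPrime p) x} =
      I.map (algebraMap R (Localization.AtPrime p)) := by
    rw [hI, Ideal.map_span, Set.image_singleton]
  rw [hmap]
  let P : Ideal (R ⧸ I) := p.map (Ideal.Quotient.mk I)
  have hP : P.IsPrime := by
    refine Ideal.map_isPrime_of_surjective Ideal.Quotient.mk_surjective ?_
    rw [Ideal.mk_ker]
    exact hle
  have hcomp : P.primeCompl = Algebra.algebraMapSubmonoid (R ⧸ I) p.primeCompl := by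
    ext x
    constructor
    · intro hx
      obtain ⟨y, rfl⟩ := Ideal.Quotient.mk_surjective x
      exact ⟨y, fun hy => hx (Ideal.mem_map_of_mem _ hy), rfl⟩
    · rintro ⟨y, hy, rfl⟩ hx
      apply hy
      obtain ⟨w, hw, hwy⟩ := (Ideal.mem_map_iff_of_surjective _ Ideal.Quotient.mk_surjective).1 hx
      have h2 : w - y ∈ I := Ideal.Quotient.eq.1 hwy
      have h3 : y = w - (w - y) := by ring
      rw [h3]
      exact p.sub_mem hw (hle h2)
  have hloc : IsLocalization.AtPrime (Localization.AtPrime p ⧸ I.map (algebraMap R (Localization.AtPrime p))) P := by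
    change IsLocalization P.primeCompl _
    rw [hcomp]
    infer_instance
  have h4 := Groth.Agent.S0564.result (R ⧸ I) P
  exact IsRegularLocalRing.of_ringEquiv
    (IsLocalization.algEquiv P.primeCompl (Localization.AtPrime P)
      (Localization.AtPrime p ⧸ I.map (algebraMap R (Localization.AtPrime p)))).toRingEquiv

/-- A single nonzero element with regular quotient is part of a regular system of parameters. -/
theorem linearIndependent_single {W : Type u} [CommRing W] [IsRegularLocalRing W] (x : W)
    (hx : x ∈ maximalIdeal W) (hx0 : x ≠ 0) (hreg : IsRegularLocalRing (W ⧸ Ideal.span {x})) :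
    LinearIndependent (ResidueField W) (fun _ : Fin 1 => (maximalIdeal W).toCotangent ⟨x, hx⟩) := by
  have hdom : IsDomain W := Groth.Agent.S0558.result W
  have hr : Set.range (fun _ : Fin 1 => x) = {x} := Set.range_const
  have hd : ringKrullDim (W ⧸ Ideal.span {x}) + 1 = ringKrullDim W :=
    ringKrullDim_quotient_span_singleton_succ_eq_ringKrullDim_of_mem_nonZeroDivisors
      (mem_nonZeroDivisors_of_ne_zero hx0) hx
  have key : ∀ I : Ideal W, I = Ideal.span {x} →
      (ringKrullDim (W ⧸ I) + ((1 : ℕ) : WithBot ℕ∞) = ringKrullDim W ∧ IsRegularLocalRing (W ⧸ I)) := by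
    rintro _ rfl
    rw [Nat.cast_one]
    exact ⟨hd, hreg⟩
  exact ((K103.RegPar.main 1 (fun _ : Fin 1 => (⟨x, hx⟩ : maximalIdeal W))).2
    (key _ (congrArg Ideal.span hr))).2

/-- **The strict henselization at a prime.** -/
theorem exists_sh_at (R : Type u) [CommRing R] [IsRegularLocalRing R] {n : ℕ} (r : Fin n → R)
    (hr : ∀ i, r i ∈ IsLocalRing.maximalIdeal R)
    (hli : LinearIndependent (IsLocalRing.ResidueField R)
      (fun i => (IsLocalRing.maximalIdeal R).toCotangent ⟨r i, hr i⟩)) (t : Ideal R) [t.IsPrime] (ht : t ≠ ⊥) :
    ∃ (S : Type u) (_ : CommRing S) (_ : IsDomain S) (_ : IsNoetherianRing S) (_ : HenselianLocalRing S)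
      (_ : IsSepClosed (ResidueField S)) (_ : Algebra R S), Function.Injective (algebraMap R S) ∧ ¬ IsField S ∧
      (maximalIdeal S).comap (algebraMap R S) = t ∧ ∀ i, r i ∈ t → Prime (algebraMap R S (r i)) ∧
        ∀ x, algebraMap R S (r i) ∣ algebraMap R S x → r i ∣ x := by
  have hdom : IsDomain R := Groth.Agent.S0558.result R
  let W := Localization.AtPrime t
  have hWreg : IsRegularLocalRing W := Groth.Agent.S0564.result R t
  have hinjW : Function.Injective (algebraMap R W) := IsLocalization.injective W t.primeCompl_le_nonZeroDivisors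
  obtain ⟨S, _, _, _, _, hS⟩ := Groth.Agent.S0537.result W
  have h1 := Groth.Agent.S0538.result W S
  have h2 := Groth.Agent.S0539.result W S
  have h3 : IsNoetherianRing S := (Groth.Agent.S0540.result W S).1 inferInstance
  have h4 := Groth.Agent.S0541.result W S
  have h5 : IsRegularLocalRing S := (Groth.Agent.S2743.result W S).2 inferInstance
  have h6 : IsSepClosed (ResidueField S) := hS.isSepClosure.sep_closed
  have h7 : IsDomain S := Groth.Agent.S0558.result S
  have h8 : HenselianLocalRing S := hS.henselian
  have hinj : Function.Injective (algebraMap W S) := FaithfulSMul.algebraMap_injective W S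
  let _ : Algebra R S := ((algebraMap W S).comp (algebraMap R W)).toAlgebra
  have hT : IsScalarTower R W S := IsScalarTower.of_algebraMap_eq fun _ => rfl
  have hcomapW : (maximalIdeal W).comap (algebraMap R W) = t := Localization.AtPrime.under_maximalIdeal
  have hloc : IsLocalHom (algebraMap W S) := inferInstance
  have hcomapS : (maximalIdeal S).comap (algebraMap W S) = maximalIdeal W :=
    ((IsLocalRing.local_hom_TFAE (algebraMap W S)).out 0 4).1 hloc
  have hcomap : (maximalIdeal S).comap (algebraMap R S) = t := by
    rw [IsScalarTower.algebraMap_eq R W S, ← Ideal.comap_comap, hcomapS, hcomapW]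
  refine ⟨S, inferInstance, h7, h3, h8, h6, inferInstance, hinj.comp hinjW, ?_, hcomap, fun i hi => ?_⟩
  · intro hf
    apply ht
    rw [← hcomap, IsLocalRing.isField_iff_maximalIdeal_eq.1 hf, ← RingHom.ker_eq_comap_bot,
      (RingHom.injective_iff_ker_eq_bot _).1 (show Function.Injective (algebraMap R S) from hinj.comp hinjW)]
  · have hp := K489.NcdReg.prime_of_li r hr hli i
    have hregR := Groth.Agent.Ega4dA.RegQuot.isRegularLocalRing_quotient R (r i) (hr i)
      (K489.NcdReg.notMem_sq r hr hli i)
    have hregW := isRegularLocalRing_quotient_localization (r i) hregR t hi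
    have hmW : algebraMap R W (r i) ∈ maximalIdeal W := by
      rw [← Ideal.mem_comap, hcomapW]
      exact hi
    have h0 : algebraMap R W (r i) ≠ 0 := fun h => hp.ne_zero (hinjW (by rw [h, map_zero]))
    have hliW := linearIndependent_single (algebraMap R W (r i)) hmW h0 hregW
    have hmS : ∀ _ : Fin 1, algebraMap W S (algebraMap R W (r i)) ∈ maximalIdeal S := fun _ => by
      rw [← h1]; exact Ideal.mem_map_of_mem _ hmW
    have hliS := Groth.Agent.Sga1.StrictReg.linearIndependent_map h1 h4 (fun _ : Fin 1 => algebraMap R W (r i))
      (fun _ => hmW) hliW hmS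
    have hprS : Prime (algebraMap W S (algebraMap R W (r i))) :=
      K489.NcdReg.prime_of_li (fun _ : Fin 1 => algebraMap W S (algebraMap R W (r i))) hmS hliS 0
    refine ⟨hprS, fun x hx => ?_⟩
    -- descend the divisibility
    have hx1 : algebraMap W S (algebraMap R W x) ∈
        (Ideal.span {algebraMap R W (r i)}).map (algebraMap W S) := by
      rw [Ideal.map_span, Set.image_singleton, Ideal.mem_span_singleton]
      exact hx
    rw [← Ideal.mem_comap, Ideal.comap_map_eq_self_of_faithfullyFlat, Ideal.mem_span_singleton] at hx1
    have hx2 : algebraMap R W x ∈ (Ideal.span {r i}).map (algebraMap R W) := by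
      rw [Ideal.map_span, Set.image_singleton, Ideal.mem_span_singleton]
      exact hx1
    have hpr : (Ideal.span {r i}).IsPrime := (Ideal.span_singleton_prime hp.ne_zero).2 hp
    have hdisj : Disjoint (t.primeCompl : Set R) (Ideal.span {r i} : Set R) := by
      refine Set.disjoint_left.2 fun y hy hy' => hy ?_
      exact (Ideal.span_le.2 (Set.singleton_subset_iff.2 hi)) hy'
    have hx3 := IsLocalization.under_map_of_isPrime_disjoint t.primeCompl W hpr hdisj
    have hx4 : x ∈ Ideal.span {r i} := by
      rw [← hx3]
      exact hx2
    exact Ideal.mem_span_singleton.1 hx4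

end K545.ShAt
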