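import Groth.Agent.Neron.K545.RowA
import Groth.Agent.Neron.K545.ShAt
import Groth.Agent.Neron.K545.FixLe

/-!
# Weak toric additivity at the closed point implies weak toric additivity everywhere

The proof of the row `S16168`.
-/

set_option autoImplicit false
universe u

open CategoryTheory CategoryTheory.Limits AlgebraicGeometry MonObj
open AbDual K125.Pts K125.Tors K125.Tate K125.Gal K489.NcdDom K489.NcdCmp K489.NcdSat K489.NcdMain
open K545.NcdRk K545.RowA

namespace K545.RowC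

section Dom

variable (R K Ω : Type u) [CommRing R] [IsDomain R] [IsNoetherianRing R] [Field K] [Algebra R K]
  [IsFractionRing R K] [Field Ω] [Algebra K Ω] [IsSepClosure K Ω]

omit [IsNoetherianRing R] in
/-- Discrete valuation rings over `R` from homomorphisms of an intermediate ring. -/
theorem exists_of_alg (S : Type u) [CommRing S] [Algebra R S] (hRS : Function.Injective (algebraMap R S))
    (V : Type u) [CommRing V] [IsDomain V] [IsDiscreteValuationRing V]
    [HenselianLocalRing V] [IsSepClosed (IsLocalRing.ResidueField V)] (φ : S →+* V)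
    (hφ : Function.Injective φ) :
    ∃ (D : Dom R K Ω) (g : S →ₐ[R] D.V) (e : V ≃+* D.V), ∀ s, g s = e (φ s) := by
  obtain ⟨D, e, he⟩ := Dom.exists_of_hom R K Ω V (φ.comp (algebraMap R S)) (hφ.comp hRS)
  exact ⟨D, { (e : V →+* D.V).comp φ with commutes' := fun x => he x }, e, fun _ => rfl⟩

variable {R}

theorem exists_of_alg_prime (S : Type u) [CommRing S] [IsDomain S] [IsNoetherianRing S] [Algebra R S]
    (hRS : Function.Injective (algebraMap R S)) {p : R} (hp : Prime (algebraMap R S p))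
    (h : ∀ x, algebraMap R S p ∣ algebraMap R S x → p ∣ x) :
    ∃ (D : Dom R K Ω), Irreducible (algebraMap R D.V p) ∧ (∀ x : R, ¬ p ∣ x → IsUnit (algebraMap R D.V x)) ∧
      ∃ g : S →ₐ[R] D.V, Function.Injective g := by
  obtain ⟨V, _, _, _, _, _, φ, hφ1, hφ2, hφ3⟩ := K489.NcdKum.exists_dvr_at S hp
  obtain ⟨D, g, e, hg⟩ := exists_of_alg R K Ω S hRS V φ hφ1
  refine ⟨D, ?_, fun x hx => ?_, g, fun a b hab => ?_⟩
  · rw [← g.commutes, hg]
    exact (MulEquiv.irreducible_iff e).2 hφ2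
  · rw [← g.commutes, hg]
    exact (hφ3 _ fun hd => hx (h x hd)).map e
  · rw [hg, hg] at hab
    exact hφ1 (e.injective hab)

end Dom

section Row

variable (R : Type u) [CommRing R] [IsDomain R] [IsRegularLocalRing R] [HenselianLocalRing R]
    [IsSepClosed (IsLocalRing.ResidueField R)]
    {n : ℕ} (r : Fin n → R) (hr : ∀ i, r i ∈ IsLocalRing.maximalIdeal R)
    (hli : LinearIndependent (IsLocalRing.ResidueField R)
      (fun i => (IsLocalRing.maximalIdeal R).toCotangent ⟨r i, hr i⟩))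
    (𝒜 : Over (Spec (CommRingCat.of R))) [GrpObj 𝒜] [IsCommMonObj 𝒜]
    [Smooth 𝒜.hom] [IsSeparated 𝒜.hom] [QuasiCompact 𝒜.hom]
    (hsab : SGA7.FibresUnipotentRankZero 𝒜)
    (hconn : ∀ (L : Type u) [Field L] (φ : R →+* L),
      ConnectedSpace ↑(pullback 𝒜.hom (Spec.map (CommRingCat.ofHom φ))))
    (hprop : IsProper (pullback.snd 𝒜.hom
      (Spec.map (CommRingCat.ofHom (algebraMap R (Localization.Away (∏ i, r i)))))))
    (ζ : Fin n → ↥(Spec (CommRingCat.of R))) (hζ : ∀ i, (ζ i).asIdeal = Ideal.span {r i})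
    (rk : Fin n → ℕ)
    (T : ∀ i, Over (Spec (CommRingCat.of (AlgebraicClosure ((Spec (CommRingCat.of R)).residueField (ζ i))))))
    [∀ i, GrpObj (T i)] (j : ∀ i, T i ⟶ Red.geomFibre (ζ i) 𝒜)
    (hT : ∀ i, Red.IsMaximalTorus (j i)) (hTsplit : ∀ i, Red.IsSplitTorusWith (Fin (rk i) → ℤ) (T i))
    (s : ↥(Spec (CommRingCat.of R))) (hs : s.asIdeal = IsLocalRing.maximalIdeal R)
    (m : ℕ) (Ts : Over (Spec (CommRingCat.of (AlgebraicClosure ((Spec (CommRingCat.of R)).residueField s)))))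
    [GrpObj Ts] (js : Ts ⟶ Red.geomFibre s 𝒜)
    (hTs : Red.IsMaximalTorus js) (hTssplit : Red.IsSplitTorusWith (Fin m → ℤ) Ts)

open Classical in
include hli hsab hprop hconn hζ hT hTsplit hs hTs hTssplit in
/-- The toric rank at the closed point is at most the toric rank at `t` plus the toric ranks at the branches not
through `t`. -/
theorem le_add (t : ↥(Spec (CommRingCat.of R))) (ht : t.asIdeal ≠ ⊥) (m' : ℕ)
    (Tt : Over (Spec (CommRingCat.of (AlgebraicClosure ((Spec (CommRingCat.of R)).residueField t))))) [GrpObj Tt]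
    (jt : Tt ⟶ Red.geomFibre t 𝒜) (hTt : Red.IsMaximalTorus jt) (hTtsplit : Red.IsSplitTorusWith (Fin m' → ℤ) Tt) :
    m ≤ m' + ∑ i ∈ Finset.univ.filter (fun i => ¬ r i ∈ t.asIdeal), rk i := by
  obtain ⟨l, hlp, hlκ⟩ := exists_prime (IsLocalRing.ResidueField R)
  have : Fact l.Prime := ⟨hlp⟩
  have hlu : IsUnit (l : R) := isUnit_of_residue hlκ
  obtain ⟨K, _, _, _⟩ := K545.Indep.exists_frac R
  obtain ⟨Ω, _, _, _⟩ := K545.Indep.exists_sepClosure K
  let _ : Algebra R Ω := ((algebraMap K Ω).comp (algebraMap R K)).toAlgebra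
  have hTow : IsScalarTower R K Ω := IsScalarTower.of_algebraMap_eq fun _ => rfl
  have hsc : IsSepClosed Ω := IsSepClosure.sep_closed K
  have hgal : IsGalois K Ω := IsSepClosure.isGalois
  have hUFD : UniqueFactorizationMonoid R := (Groth.Agent.S2821.result R).2
  have hrp := K489.NcdReg.prime_of_li r hr hli
  obtain ⟨hp, hgi, h2⟩ := gen R r hr hli 𝒜 hsab hprop (fun L _ φ _ => hconn L φ) K Ω l hlp hlκ
  have hfin := finite_TT (K := K) (Ω := Ω) 𝒜 l hsab hp hlu
  obtain ⟨S, _, _, _, _, _, _, hRS, hSf, hSt, hSi⟩ := K545.ShAt.exists_sh_at R r hr hli t.asIdeal ht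
  -- the valuation ring at `t`
  obtain ⟨V, _, _, _, _, _, φ, hφ1, hφ2⟩ := K486.DomDvr.exists_strict_dvr S hSf
  obtain ⟨Dt, gt, et, hgt⟩ := exists_of_alg R K Ω S hRS V φ hφ2
  have hgt1 : Function.Injective gt := fun a b hab => hφ2 (et.injective (by rw [← hgt, ← hgt, hab]))
  have hgt2 : IsLocalHom (gt : S →+* Dt.V) := ⟨fun a ha => hφ1.map_nonunit a (by
    have h3 : IsUnit (et (φ a)) := by
      rw [← hgt]
      exact ha
    exact (MulEquiv.isUnit_map et).1 h3)⟩
  have hDt : (IsLocalRing.maximalIdeal Dt.V).comap (algebraMap R Dt.V) = t.asIdeal := by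
    have h3 : algebraMap R Dt.V = (gt : S →+* Dt.V).comp (algebraMap R S) := RingHom.ext fun x => (gt.commutes x).symm
    have h4 : (IsLocalRing.maximalIdeal Dt.V).comap (gt : S →+* Dt.V) = IsLocalRing.maximalIdeal S :=
      ((IsLocalRing.local_hom_TFAE (gt : S →+* Dt.V)).out 0 4).1 hgt2
    rw [h3, ← Ideal.comap_comap, h4, hSt]
  -- the valuation rings at the branches
  have hD0 : ∀ i, ∃ D : Dom R K Ω, Irreducible (algebraMap R D.V (r i)) ∧
      (∀ x : R, ¬ r i ∣ x → IsUnit (algebraMap R D.V x)) ∧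
      (r i ∈ t.asIdeal → ∃ g : S →ₐ[R] D.V, Function.Injective g) := by
    intro i
    by_cases hi : r i ∈ t.asIdeal
    · obtain ⟨D, hD1, hD2, hD3⟩ := exists_of_alg_prime K Ω S hRS (hSi i hi).1 (hSi i hi).2
      exact ⟨D, hD1, hD2, fun _ => hD3⟩
    · obtain ⟨D, hD1, hD2⟩ := Dom.exists_of_prime R K Ω (hrp i)
      exact ⟨D, hD1, hD2, fun h => absurd h hi⟩
  choose D hD hD' hDg using hD0
  have hle : ∀ i, r i ∈ t.asIdeal → fixT 𝒜 l Dt ≤ fixT 𝒜 l (D i) := by
    intro i hi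
    obtain ⟨g, hg⟩ := hDg i hi
    exact K545.FixLe.fixT_le 𝒜 l hlu hsab hp hgi S hRS hSf Dt (D i) gt hgt1 hgt2 g hg
  have hm' : m' = Module.finrank ℤ_[l] (TT R K Ω 𝒜 l ⧸ fixT 𝒜 l Dt) :=
    (quot_fixT 𝒜 l Dt hsab hp hgi hlu t hDt jt hTtsplit).2 hTt
  have hrk : ∀ i, rk i = Module.finrank ℤ_[l] (TT R K Ω 𝒜 l ⧸ fixT 𝒜 l (D i)) := fun i =>
    (quot_fixT 𝒜 l (D i) hsab hp hgi hlu (ζ i)
      ((comap_eq_span _ (hD i) (hD' i)).trans (hζ i).symm) (j i) (hTsplit i)).2 (hT i)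
  have hsb : s.asIdeal ≠ ⊥ := by
    intro h
    apply ht
    rw [eq_bot_iff, ← h, hs]
    exact IsLocalRing.le_maximalIdeal t.isPrime.ne_top
  obtain ⟨E, hE⟩ := exists_dom_at R K Ω s.asIdeal hsb
  have hm : m = Module.finrank ℤ_[l] (TT R K Ω 𝒜 l ⧸ fixT 𝒜 l E) :=
    (quot_fixT 𝒜 l E hsab hp hgi hlu s hE js hTssplit).2 hTs
  let Q : Option (Fin n) → Submodule ℤ_[l] (TT R K Ω 𝒜 l) := fun o => o.elim (fixT 𝒜 l Dt) (fun i => fixT 𝒜 l (D i))
  let F : Finset (Fin n) := Finset.univ.filter (fun i => ¬ r i ∈ t.asIdeal)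
  have key := PadicRank.finrank_quot_le_sum (l := l) (Finset.insertNone F) Q (fixT 𝒜 l E) (fun x hx => by
    refine mem_fixT_of_forall r hrp 𝒜 hprop l hlu h2 D hD hD' E ∅ (fun i hi => absurd hi (Set.notMem_empty i)) x
      fun i _ => ?_
    by_cases hi : r i ∈ t.asIdeal
    · exact hle i hi (hx none (Finset.mem_insertNone.2 (by simp)))
    · exact hx (some i) (Finset.mem_insertNone.2 (by simpa [F] using hi)))
  rw [Finset.sum_insertNone] at key
  rw [hm]
  refine key.trans (le_of_eq ?_)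
  rw [hm']
  exact congrArg (fun a => Module.finrank ℤ_[l] (TT R K Ω 𝒜 l ⧸ fixT 𝒜 l Dt) + a)
    (Finset.sum_congr rfl fun i _ => (hrk i).symm)

open Classical in
include hli hsab hprop hconn hζ hT hTsplit hs hTs hTssplit in
theorem rowC (hweak : m = ∑ i, rk i)
    (t : ↥(Spec (CommRingCat.of R))) (m' : ℕ)
    (Tt : Over (Spec (CommRingCat.of (AlgebraicClosure ((Spec (CommRingCat.of R)).residueField t))))) [GrpObj Tt]
    (jt : Tt ⟶ Red.geomFibre t 𝒜) (hTt : Red.IsMaximalTorus jt) (hTtsplit : Red.IsSplitTorusWith (Fin m' → ℤ) Tt) :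
    m' = ∑ i ∈ Finset.univ.filter (fun i => r i ∈ t.asIdeal), rk i := by
  have i1 : IsMonHom jt := hTt.1
  have i2 : Mono jt := hTt.2.1
  have h1 := rowA R r hr hli 𝒜 hsab hprop (fun L _ φ _ => hconn L φ) ζ hζ rk T j hT hTsplit t m' Tt jt hTtsplit
  refine le_antisymm h1 ?_
  by_cases ht : t.asIdeal = ⊥
  · have h2 : Finset.univ.filter (fun i => r i ∈ t.asIdeal) = ∅ := by
      rw [Finset.filter_eq_empty_iff]
      intro i _ hi
      rw [ht, Ideal.mem_bot] at hi
      exact (K489.NcdReg.prime_of_li r hr hli i).ne_zero hi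
    rw [h2, Finset.sum_empty]
    exact Nat.zero_le _
  have h2 := le_add R r hr hli 𝒜 hsab hconn hprop ζ hζ rk T j hT hTsplit s hs m Ts js hTs hTssplit t ht m' Tt jt
    hTt hTtsplit
  have h3 := Finset.sum_filter_add_sum_filter_not Finset.univ (fun i => r i ∈ t.asIdeal) rk
  omega

end Row

end K545.RowC
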