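import Groth.Agent.Neron.K545.TatFun
import Groth.Agent.Neron.K486.LevelMain
import Groth.Agent.Neron.K489.NcdPts

/-!
# Tate modules of points with values in strictly henselian algebras

`𝒜` a smooth separated commutative group scheme over `R`.

* `res_injective`: points with values in a domain are determined over an extension;
* `exists_lift`, `tres_bijective`: torsion points over a strictly henselian local algebra `W₁` are the torsion
  points over a local `W₁`-algebra;
* `mem_range_of_fixed`: over a strictly henselian Noetherian local domain `V` the Galois-fixed part of the Tate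
  module of the fraction field comes from `V`;
* `level_two`: level two of the Galois action for a strictly henselian Noetherian local domain.
-/

set_option autoImplicit false
universe u

open CategoryTheory CategoryTheory.Limits AlgebraicGeometry MonObj
open MonoidalCategory CartesianMonoidalCategory
open Groth.Agent.Sga7.H729.Dict Groth.Agent.Sga67.TorsionLift
open K486.TatePts K486.GalPts AbDual K545.TatFun

namespace K545.TatBase

variable {R : Type u} [CommRing R]

section Inj

variable (N : Over (Spec (CommRingCat.of R))) [GrpObj N]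
  {L L' : Type u} [CommRing L] [CommRing L'] [Algebra R L] [Algebra R L']

theorem isDominant_specMap [IsDomain L] [Nontrivial L'] (f : L →+* L') (hf : Function.Injective f) :
    IsDominant (Spec.map (CommRingCat.ofHom f)) := by
  refine ⟨?_⟩
  change DenseRange (PrimeSpectrum.comap f)
  rw [PrimeSpectrum.denseRange_comap_iff_ker_le_nilRadical]
  rw [(RingHom.injective_iff_ker_eq_bot f).1 hf]
  exact bot_le

/-- Points with values in a domain are determined over an extension. -/
theorem res_injective [IsSeparated N.hom] [IsDomain L] [Nontrivial L'] (f : L →ₐ[R] L')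
    (hf : Function.Injective f) : Function.Injective (res N f) := by
  intro a b hab
  have hd := isDominant_specMap (f : L →+* L') hf
  have hr : IsReduced (sp R L).left := inferInstanceAs (IsReduced (Spec (CommRingCat.of L)))
  ext1
  refine ext_of_isDominant_of_isSeparated N.hom ?_ (Spec.map (CommRingCat.ofHom (f : L →+* L')))
    (congrArg (fun q => q.left) hab)
  rw [Over.w, Over.w]

end Inj

section EVr

variable {V Φ : Type u} [CommRing V] [CommRing Φ] [Algebra R V] [Algebra R Φ] [Algebra V Φ]
  [IsScalarTower R V Φ] (N : Over (Spec (CommRingCat.of R))) [GrpObj N]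

variable (R V Φ) in
/-- `Φ`-points of the base change to `V` are `Φ`-points (any ring `Φ`). -/
noncomputable def EVr : (sp V Φ ⟶ Red.bc (Spec.map (CommRingCat.ofHom (algebraMap R V))) N) ≃* (sp R Φ ⟶ N) :=
  have hw : Spec.map (CommRingCat.ofHom (algebraMap V Φ)) ≫ Spec.map (CommRingCat.ofHom (algebraMap R V)) =
      Spec.map (CommRingCat.ofHom (algebraMap R Φ)) := by
    rw [← Spec.map_comp, ← CommRingCat.ofHom_comp, ← IsScalarTower.algebraMap_eq]
  let j₀ : sp R Φ ⟶ (Over.map (Spec.map (CommRingCat.ofHom (algebraMap R V)))).obj (sp V Φ) :=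
    Over.homMk (𝟙 _) (by
      change 𝟙 _ ≫ Spec.map (CommRingCat.ofHom (algebraMap V Φ)) ≫
        Spec.map (CommRingCat.ofHom (algebraMap R V)) = Spec.map (CommRingCat.ofHom (algebraMap R Φ))
      rw [Category.id_comp, hw])
  let j₁ : (Over.map (Spec.map (CommRingCat.ofHom (algebraMap R V)))).obj (sp V Φ) ⟶ sp R Φ :=
    Over.homMk (𝟙 _) (by
      change 𝟙 _ ≫ Spec.map (CommRingCat.ofHom (algebraMap R Φ)) =
        Spec.map (CommRingCat.ofHom (algebraMap V Φ)) ≫ Spec.map (CommRingCat.ofHom (algebraMap R V))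
      rw [Category.id_comp, hw])
  (bcPts (Spec.map (CommRingCat.ofHom (algebraMap R V))) N (sp V Φ)).trans
    { toFun := fun x => j₀ ≫ x
      invFun := fun x => j₁ ≫ x
      left_inv := fun x => by ext1; exact (Category.id_comp _).trans (Category.id_comp _)
      right_inv := fun x => by ext1; exact (Category.id_comp _).trans (Category.id_comp _)
      map_mul' := fun x y => MonObj.comp_mul _ _ _ }

lemma EVr_left (x : sp V Φ ⟶ Red.bc (Spec.map (CommRingCat.ofHom (algebraMap R V))) N) :
    (EVr R V Φ N x).left = x.left ≫ pullback.fst N.hom (Spec.map (CommRingCat.ofHom (algebraMap R V))) := by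
  change (𝟙 _ ≫ (bcPts _ N _ x).left) = _
  rw [bcPts_left, Category.id_comp]

end EVr

section Lift

variable (N : Over (Spec (CommRingCat.of R))) [GrpObj N] [IsCommMonObj N] [Smooth N.hom]
  {W₁ W₂ : Type u} [CommRing W₁] [HenselianLocalRing W₁] [IsSepClosed (IsLocalRing.ResidueField W₁)]
  [CommRing W₂] [IsLocalRing W₂] [Algebra R W₁] [Algebra R W₂]

omit [IsSepClosed (IsLocalRing.ResidueField W₁)] in
theorem etale_pow_bc (n : ℕ) (hn : (n : IsLocalRing.ResidueField W₁) ≠ 0) :
    Etale (𝟙 (Red.bc (Spec.map (CommRingCat.ofHom (algebraMap R W₁))) N) ^ n).left := by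
  have i1 : Smooth (Red.bc (Spec.map (CommRingCat.ofHom (algebraMap R W₁))) N).hom :=
    inferInstanceAs (Smooth (pullback.snd N.hom _))
  exact Groth.Agent.Sga7.H751.PowEtale.etale_pow _ _ fun p => natCast_residueField_ne_zero hn p

/-- Torsion points over a local algebra over a strictly henselian local ring lift. -/
theorem exists_lift (f : W₁ →ₐ[R] W₂) (hf : IsLocalHom (f : W₁ →+* W₂)) (n : ℕ)
    (hn : (n : IsLocalRing.ResidueField W₁) ≠ 0) (z : sp R W₂ ⟶ N) (hz : z ^ n = 1) :
    ∃ w : sp R W₁ ⟶ N, w ^ n = 1 ∧ res N f w = z := by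
  let _ : Algebra W₁ W₂ := (f : W₁ →+* W₂).toAlgebra
  have hT : IsScalarTower R W₁ W₂ := IsScalarTower.of_algebraMap_eq fun a => (f.commutes a).symm
  have hl : IsLocalHom (algebraMap W₁ W₂) := hf
  let g : Spec (CommRingCat.of W₁) ⟶ Spec (CommRingCat.of R) := Spec.map (CommRingCat.ofHom (algebraMap R W₁))
  let G := Red.bc g N
  have het : Etale (𝟙 G ^ n).left := etale_pow_bc N n hn
  let z' : sp W₁ W₂ ⟶ G := (EVr R W₁ W₂ N).symm z
  have hz' : z' ^ n = 1 := by rw [← map_pow, hz, map_one]
  obtain ⟨a, ha1, ha2⟩ := Groth.Agent.Sga7.H729.TorsionSec.exists_sec_of_pow_eq_one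
    (G := G) (n := n) ⟨inferInstance, inferInstance⟩ (T := W₂) z' hz'
  let t' : sp R W₁ ⟶ (Over.map g).obj (𝟙_ (Over (Spec (CommRingCat.of W₁)))) := Over.homMk (𝟙 _) (by
    change 𝟙 _ ≫ 𝟙 _ ≫ g = g
    simp)
  refine ⟨compHom t' N (bcPts g N _ a), ?_, ?_⟩
  · rw [← map_pow, ← map_pow, ha1, map_one, map_one]
  · have h1 : EVr R W₁ W₂ N (toUnit _ ≫ a) = z := by
      rw [ha2]
      exact MulEquiv.apply_symm_apply _ _
    rw [← h1]
    ext1
    rw [res_left, EVr_left, Over.comp_left, Over.toUnit_left, Category.assoc]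
    change _ ≫ 𝟙 _ ≫ (bcPts g N (𝟙_ _) a).left = _
    rw [bcPts_left, Category.id_comp]
    rfl

omit [IsSepClosed (IsLocalRing.ResidueField W₁)] in
/-- Torsion points over a local ring which are trivial after a local extension are trivial. -/
theorem eq_one_of_res_eq_one (f : W₁ →ₐ[R] W₂) (hf : IsLocalHom (f : W₁ →+* W₂)) (n : ℕ)
    (hn : (n : IsLocalRing.ResidueField W₁) ≠ 0) (z : sp R W₁ ⟶ N) (hz : z ^ n = 1) (h : res N f z = 1) :
    z = 1 := by
  let _ : Algebra W₁ W₂ := (f : W₁ →+* W₂).toAlgebra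
  have hT : IsScalarTower R W₁ W₂ := IsScalarTower.of_algebraMap_eq fun a => (f.commutes a).symm
  have hl : IsLocalHom (algebraMap W₁ W₂) := hf
  let g : Spec (CommRingCat.of W₁) ⟶ Spec (CommRingCat.of R) := Spec.map (CommRingCat.ofHom (algebraMap R W₁))
  let G := Red.bc g N
  have het : Etale (𝟙 G ^ n).left := etale_pow_bc N n hn
  let t' : (Over.map g).obj (𝟙_ (Over (Spec (CommRingCat.of W₁)))) ⟶ sp R W₁ := Over.homMk (𝟙 _) (by
    change 𝟙 _ ≫ g = 𝟙 _ ≫ g
    rfl)
  let t : sp R W₁ ⟶ (Over.map g).obj (𝟙_ (Over (Spec (CommRingCat.of W₁)))) := Over.homMk (𝟙 _) (by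
    change 𝟙 _ ≫ 𝟙 _ ≫ g = g
    simp)
  let a : 𝟙_ (Over (Spec (CommRingCat.of W₁))) ⟶ G := (bcPts g N _).symm (compHom t' N z)
  have ha : bcPts g N _ a = t' ≫ z := MulEquiv.apply_symm_apply _ _
  have ha1 : a ^ n = 1 := by rw [← map_pow, ← map_pow, hz, map_one, map_one]
  have h1 : EVr R W₁ W₂ N (toUnit _ ≫ a) = res N f z := by
    ext1
    rw [res_left, EVr_left, Over.comp_left, Over.toUnit_left, Category.assoc]
    have h2 : a.left ≫ pullback.fst N.hom g = z.left := by
      rw [← bcPts_left, ha]
      exact Category.id_comp _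
    exact congrArg _ h2
  have h3 : toUnit (sp W₁ W₂) ≫ a = toUnit _ ≫ 1 := by
    apply (EVr R W₁ W₂ N).injective
    rw [h1, h, MonObj.comp_one, map_one]
  have h4 := Groth.Agent.Sga7.H729.TorsionSec.sec_ext_of_pow_eq_one (G := G) (n := n) (T := W₂) a 1 ha1
    (one_pow n) h3
  have h5 : z = t ≫ bcPts g N _ a := by
    rw [ha]
    ext1
    exact ((Category.id_comp _).trans (Category.id_comp _)).symm
  rw [h5, h4, map_one, MonObj.comp_one]

variable (l : ℕ) [Fact l.Prime]

theorem tres_bijective (f : W₁ →ₐ[R] W₂) (hf : IsLocalHom (f : W₁ →+* W₂))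
    (hl : (l : IsLocalRing.ResidueField W₁) ≠ 0) : Function.Bijective (tres N l f) := by
  have hn : ∀ n : ℕ, ((l ^ n : ℕ) : IsLocalRing.ResidueField W₁) ≠ 0 := fun n => by
    rw [Nat.cast_pow]; exact pow_ne_zero _ hl
  exact ⟨tmap_injective _ fun n z hz h => eq_one_of_res_eq_one N f hf (l ^ n) (hn n) z hz h,
    tmap_surjective _ (fun n z hz h => eq_one_of_res_eq_one N f hf (l ^ n) (hn n) z hz h)
      (fun n z hz => exists_lift N f hf (l ^ n) (hn n) z hz)⟩

end Lift

section Gal

variable (N : Over (Spec (CommRingCat.of R))) [GrpObj N] [IsCommMonObj N] [Smooth N.hom] [IsSeparated N.hom]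
  [QuasiCompact N.hom] (hsab : SGA7.FibresUnipotentRankZero N) (l : ℕ) [Fact l.Prime]

omit [GrpObj N] [IsCommMonObj N] [Smooth N.hom] [IsSeparated N.hom] [QuasiCompact N.hom] in
/-- The generic fibre conditions for the base change. -/
theorem gen_bc (V F : Type u) [CommRing V] [Field F] [Algebra R V] [Algebra V F] [Algebra R F]
    [IsScalarTower R V F]
    (hp : IsProper (pullback.snd N.hom (Spec.map (CommRingCat.ofHom (algebraMap R F)))))
    (hgi : GeometricallyIntegral (pullback.snd N.hom (Spec.map (CommRingCat.ofHom (algebraMap R F))))) :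
    IsProper (pullback.snd (Red.bc (Spec.map (CommRingCat.ofHom (algebraMap R V))) N).hom
      (Spec.map (CommRingCat.ofHom (algebraMap V F)))) ∧
    GeometricallyIntegral (pullback.snd (Red.bc (Spec.map (CommRingCat.ofHom (algebraMap R V))) N).hom
      (Spec.map (CommRingCat.ofHom (algebraMap V F)))) := by
  let fV : Spec (CommRingCat.of V) ⟶ Spec (CommRingCat.of R) := Spec.map (CommRingCat.ofHom (algebraMap R V))
  let fF : Spec (CommRingCat.of F) ⟶ Spec (CommRingCat.of V) := Spec.map (CommRingCat.ofHom (algebraMap V F))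
  have hw : Spec.map (CommRingCat.ofHom (algebraMap R F)) = fF ≫ fV := by
    change _ = Spec.map _ ≫ Spec.map _
    rw [← Spec.map_comp, ← CommRingCat.ofHom_comp, ← IsScalarTower.algebraMap_eq]
  have hsq : IsPullback (pullback.fst (pullback.snd N.hom fV) fF ≫ pullback.fst N.hom fV)
      (pullback.snd (pullback.snd N.hom fV) fF) N.hom (fF ≫ fV) :=
    (IsPullback.of_hasPullback (pullback.snd N.hom fV) fF).paste_horiz (IsPullback.of_hasPullback N.hom fV)
  have hsq0 := IsPullback.of_hasPullback N.hom (Spec.map (CommRingCat.ofHom (algebraMap R F)))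
  rw [← hw] at hsq
  constructor
  · change IsProper (pullback.snd (pullback.snd N.hom fV) fF)
    rw [← hsq.isoIsPullback_hom_snd _ _ hsq0]
    infer_instance
  · change GeometricallyIntegral (pullback.snd (pullback.snd N.hom fV) fF)
    rw [← hsq.isoIsPullback_hom_snd _ _ hsq0]
    exact (MorphismProperty.cancel_left_of_respectsIso @GeometricallyIntegral _ _).2 hgi

include hsab

/-- The Galois-fixed part of the Tate module of the fraction field of a strictly henselian Noetherian local
domain comes from the ring. -/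
theorem mem_range_of_fixed (V F Φ : Type u) [CommRing V] [IsDomain V] [IsNoetherianRing V] [HenselianLocalRing V]
    [IsSepClosed (IsLocalRing.ResidueField V)] [Field F] [Algebra V F] [IsFractionRing V F]
    [Field Φ] [Algebra F Φ] [IsGalois F Φ] [Algebra R V] [Algebra R F] [IsScalarTower R V F]
    [Algebra R Φ] [IsScalarTower R F Φ] (hfield : ¬ IsField V)
    (hp : IsProper (pullback.snd N.hom (Spec.map (CommRingCat.ofHom (algebraMap R F)))))
    (hgi : GeometricallyIntegral (pullback.snd N.hom (Spec.map (CommRingCat.ofHom (algebraMap R F)))))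
    (hlp : (l : IsLocalRing.ResidueField V) ≠ 0) (x : TM N l Φ)
    (hx : ∀ σ : Φ ≃ₐ[F] Φ, tres N l ((σ : Φ →ₐ[F] Φ).restrictScalars R) x = x) (a : V →ₐ[R] Φ)
    (ha : ∀ v, a v = algebraMap F Φ (algebraMap V F v)) : x ∈ LinearMap.range (tres N l a) := by
  let _ : Algebra V Φ := ((algebraMap F Φ).comp (algebraMap V F)).toAlgebra
  have hT1 : IsScalarTower V F Φ := IsScalarTower.of_algebraMap_eq fun _ => rfl
  have hT2 : IsScalarTower R V Φ := IsScalarTower.of_algebraMap_eq fun r => by
    rw [IsScalarTower.algebraMap_apply R F Φ, IsScalarTower.algebraMap_apply R V F]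
    rfl
  let G := Red.bc (Spec.map (CommRingCat.ofHom (algebraMap R V))) N
  have hG : SGA7.FibresUnipotentRankZero G :=
    Groth.Agent.Sga7.H738.RankZeroBc.fibresUnipotentRankZero_bc Groth.Agent.Sga7.H738.S4057Comm.l2 _ N hsab
  have i1 : Smooth G.hom := inferInstanceAs (Smooth (pullback.snd N.hom _))
  have i2 : IsSeparated G.hom := inferInstanceAs (IsSeparated (pullback.snd N.hom _))
  have i3 : QuasiCompact G.hom := inferInstanceAs (QuasiCompact (pullback.snd N.hom _))
  obtain ⟨h1, h2⟩ := gen_bc N V F hp hgi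
  have hinj : Function.Injective a := by
    intro v w hvw
    rw [ha, ha] at hvw
    exact IsFractionRing.injective V F ((algebraMap F Φ).injective hvw)
  have hval : ∀ σ : Φ ≃ₐ[F] Φ, (σ : Φ →ₐ[F] Φ).restrictScalars R =
      ((σ : Φ →ₐ[F] Φ).restrictScalars V).restrictScalars R := fun σ => rfl
  have h3 := K489.NcdPts.exists_sec V F Φ hfield G hG h1 h2 l Fact.out hlp
    (fun m => (EV R V Φ N).symm (c m x))
    (fun σ m => by
      apply (EV R V Φ N).injective
      rw [EV_res, MulEquiv.apply_symm_apply, ← hval, ← c_tres, hx])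
    (fun m => by rw [← map_pow, c_pow, map_one]) (fun m => by rw [← map_pow, c_succ])
  have h4 : ∀ m, ∃ w : sp R V ⟶ N, w ^ (l ^ m) = 1 ∧ res N a w = c m x := by
    intro m
    obtain ⟨s, hs1, hs2⟩ := h3 m
    let g : Spec (CommRingCat.of V) ⟶ Spec (CommRingCat.of R) := Spec.map (CommRingCat.ofHom (algebraMap R V))
    let t : sp R V ⟶ (Over.map g).obj (𝟙_ (Over (Spec (CommRingCat.of V)))) := Over.homMk (𝟙 _) (by
      change 𝟙 _ ≫ 𝟙 _ ≫ g = g
      simp)
    refine ⟨compHom t N (bcPts g N _ s), ?_, ?_⟩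
    · rw [← map_pow, ← map_pow, hs1, map_one, map_one]
    · have h5 : EV R V Φ N (toUnit _ ≫ s) = c m x := by
        rw [hs2]
        exact MulEquiv.apply_symm_apply _ _
      rw [← h5]
      ext1
      rw [res_left, EV_left, Over.comp_left, Over.toUnit_left, Category.assoc]
      change _ ≫ 𝟙 _ ≫ (bcPts g N (𝟙_ _) s).left = _
      rw [bcPts_left, Category.id_comp]
      have h6 : (a : V →+* Φ) = algebraMap V Φ := RingHom.ext ha
      rw [h6]
      rfl
  choose w hw1 hw2 using h4
  refine ⟨mk w hw1 (fun n => res_injective N a hinj ?_), ext_c fun n => hw2 n⟩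
  rw [map_pow, hw2, hw2, c_succ]

/-- Level two of the Galois action. -/
theorem level_two (B K Ω : Type u) [CommRing B] [IsDomain B] [IsNoetherianRing B] [HenselianLocalRing B]
    [IsSepClosed (IsLocalRing.ResidueField B)] [Field K] [Algebra B K] [IsFractionRing B K]
    [Field Ω] [Algebra K Ω] [IsSepClosure K Ω] [Algebra R B] [Algebra R K] [IsScalarTower R B K]
    [Algebra R Ω] [IsScalarTower R K Ω]
    (hp : IsProper (pullback.snd N.hom (Spec.map (CommRingCat.ofHom (algebraMap R K)))))
    (hgi : GeometricallyIntegral (pullback.snd N.hom (Spec.map (CommRingCat.ofHom (algebraMap R K)))))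
    (hlp : (l : IsLocalRing.ResidueField B) ≠ 0) (x : TM N l Ω) (σ τ : Ω ≃ₐ[K] Ω) :
    tres N l ((σ : Ω →ₐ[K] Ω).restrictScalars R) (tres N l ((τ : Ω →ₐ[K] Ω).restrictScalars R) x - x) =
      tres N l ((τ : Ω →ₐ[K] Ω).restrictScalars R) x - x := by
  let _ : Algebra B Ω := ((algebraMap K Ω).comp (algebraMap B K)).toAlgebra
  have hT1 : IsScalarTower B K Ω := IsScalarTower.of_algebraMap_eq fun _ => rfl
  have hT2 : IsScalarTower R B Ω := IsScalarTower.of_algebraMap_eq fun r => by
    rw [IsScalarTower.algebraMap_apply R K Ω, IsScalarTower.algebraMap_apply R B K]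
    rfl
  let G := Red.bc (Spec.map (CommRingCat.ofHom (algebraMap R B))) N
  have hG : SGA7.FibresUnipotentRankZero G :=
    Groth.Agent.Sga7.H738.RankZeroBc.fibresUnipotentRankZero_bc Groth.Agent.Sga7.H738.S4057Comm.l2 _ N hsab
  have i1 : Smooth G.hom := inferInstanceAs (Smooth (pullback.snd N.hom _))
  have i2 : IsSeparated G.hom := inferInstanceAs (IsSeparated (pullback.snd N.hom _))
  have i3 : QuasiCompact G.hom := inferInstanceAs (QuasiCompact (pullback.snd N.hom _))
  obtain ⟨h1, h2⟩ := gen_bc N B K hp hgi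
  have h1' : IsProper ((SGA7.genFib B K).obj G).hom := h1
  have h2' : GeometricallyIntegral ((SGA7.genFib B K).obj G).hom := h2
  refine ext_c fun n => ?_
  have h3 := K486.LevelMain.levelTwo B K Ω G hG l Fact.out hlp n σ τ ((EF R B K Ω N).symm (c n x)) (by
    rw [← map_pow, c_pow, map_one])
  have h4 := congrArg (EF R B K Ω N) h3
  rw [EF_dev, EF_dev, MulEquiv.apply_symm_apply, map_one] at h4
  rw [c_tres, c_sub, c_tres]
  exact mul_inv_eq_one.1 h4

end Gal

end K545.TatBase
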