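import Groth.Agent.Neron.K486.GalPts
import Groth.Prelude.Def_AbDual

/-!
# Tate modules of points: functoriality

* `tmap`: the map of Tate modules of a homomorphism of groups of points, `tequiv`: an isomorphism;
* `tmap_injective`, `tmap_surjective`: criteria on torsion points;
* `TM 𝒜 l L`: the Tate module of `L`-points of `𝒜`, `tres` its functoriality in the `R`-algebra `L`.
-/

set_option autoImplicit false
universe u

open CategoryTheory CategoryTheory.Limits AlgebraicGeometry MonObj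
open MonoidalCategory CartesianMonoidalCategory
open Groth.Agent.Sga7.H729.Dict Groth.Agent.Sga67.TorsionLift
open K486.TatePts K486.GalPts AbDual

noncomputable section

namespace K545.TatFun

section General

variable {S S' S'' : Scheme.{u}} {A : Over S} [GrpObj A] [IsCommMonObj A] {T : Over S}
  {A' : Over S'} [GrpObj A'] [IsCommMonObj A'] {T' : Over S'}
  {A'' : Over S''} [GrpObj A''] [IsCommMonObj A''] {T'' : Over S''} {l : ℕ}

/-- The `n`-th component. -/
def c (n : ℕ) (x : TateMod A l T) : T ⟶ A := (TateMod.component A l T n x).toMul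

lemma c_pow (n : ℕ) (x : TateMod A l T) : c n x ^ l ^ n = 1 := x.torsion n

lemma c_succ (n : ℕ) (x : TateMod A l T) : c (n + 1) x ^ l = c n x := x.compat n

lemma c_add (n : ℕ) (x y : TateMod A l T) : c n (x + y) = c n x * c n y := rfl

lemma c_zero (n : ℕ) : c n (0 : TateMod A l T) = 1 := rfl

lemma ext_c {x y : TateMod A l T} (h : ∀ n, c n x = c n y) : x = y :=
  TateMod.ext fun n => Additive.toMul.injective (h n)

lemma c_sub (n : ℕ) (x y : TateMod A l T) : c n (x - y) = c n x * (c n y)⁻¹ := by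
  rw [eq_mul_inv_iff_mul_eq, ← c_add, sub_add_cancel]

lemma c_add_pow (n k : ℕ) (x : TateMod A l T) : c (n + k) x ^ l ^ k = c n x := by
  induction k with
  | zero => rw [pow_zero, pow_one, Nat.add_zero]
  | succ k ih => rw [← Nat.add_assoc, pow_succ', pow_mul, c_succ, ih]

lemma c_zero_index (x : TateMod A l T) : c 0 x = 1 := by
  have h := c_pow 0 x
  rwa [pow_zero, pow_one] at h

/-- The Tate module element with given components. -/
def mk (f : ℕ → (T ⟶ A)) (h1 : ∀ n, f n ^ l ^ n = 1) (h2 : ∀ n, f (n + 1) ^ l = f n) : TateMod A l T :=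
  ⟨fun n => Additive.ofMul (f n), ⟨fun n => h1 n, fun n => h2 n⟩⟩

lemma c_mk (f : ℕ → (T ⟶ A)) (h1 : ∀ n, f n ^ l ^ n = 1) (h2 : ∀ n, f (n + 1) ^ l = f n) (n : ℕ) :
    c n (mk f h1 h2) = f n := rfl

section Padic

variable [hl : Fact l.Prime]

lemma c_smul (n : ℕ) (a : ℤ_[l]) (x : TateMod A l T) : c n (a • x) = c n x ^ a.appr n := rfl

lemma natCast_smul (a : ℕ) (x : TateMod A l T) : (a : ℤ_[l]) • x = a • x := Nat.cast_smul_eq_nsmul ℤ_[l] a x

omit hl in
lemma c_nsmul (n a : ℕ) (x : TateMod A l T) : c n (a • x) = c n x ^ a := by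
  induction a with
  | zero => rw [zero_smul, pow_zero, c_zero]
  | succ a ih => rw [succ_nsmul, c_add, ih, pow_succ]

lemma c_l_smul (n : ℕ) (x : TateMod A l T) : c n ((l : ℤ_[l]) • x) = c n x ^ l := by
  rw [natCast_smul, c_nsmul]

lemma eq_zero_of_l_smul (x : TateMod A l T) (h : (l : ℤ_[l]) • x = 0) : x = 0 := by
  refine ext_c fun n => ?_
  rw [← c_succ n x, ← c_l_smul, h, c_zero, c_zero]

/-- Elements with trivial first component are divisible by `l`. -/
lemma exists_l_smul (x : TateMod A l T) (h : c 1 x = 1) : ∃ y : TateMod A l T, x = (l : ℤ_[l]) • y := by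
  refine ⟨mk (fun n => c (n + 1) x) (fun n => ?_) (fun n => ?_), ext_c fun n => ?_⟩
  · rw [Nat.add_comm n 1, c_add_pow, h]
  · rw [c_succ]
  · rw [c_l_smul, c_mk, c_succ]

/-- The map of Tate modules of a homomorphism of groups of points. -/
def tmap (φ : (T ⟶ A) →* (T' ⟶ A')) : TateMod A l T →ₗ[ℤ_[l]] TateMod A' l T' where
  toFun x := mk (fun n => φ (c n x)) (fun n => by rw [← map_pow, c_pow, map_one])
    (fun n => by rw [← map_pow, c_succ])
  map_add' x y := ext_c fun n => by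
    rw [c_mk, c_add, c_add, c_mk, c_mk, map_mul]
  map_smul' a x := ext_c fun n => by
    rw [RingHom.id_apply, c_mk, c_smul, c_smul, c_mk, map_pow]

lemma c_tmap (φ : (T ⟶ A) →* (T' ⟶ A')) (x : TateMod A l T) (n : ℕ) : c n (tmap φ x) = φ (c n x) := rfl

lemma tmap_tmap (φ : (T ⟶ A) →* (T' ⟶ A')) (ψ : (T' ⟶ A') →* (T'' ⟶ A'')) (x : TateMod A l T) :
    tmap ψ (tmap φ x) = tmap (ψ.comp φ) x := rfl

lemma tmap_injective (φ : (T ⟶ A) →* (T' ⟶ A'))
    (h : ∀ (n : ℕ) (z : T ⟶ A), z ^ l ^ n = 1 → φ z = 1 → z = 1) :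
    Function.Injective (tmap (l := l) φ) := by
  rw [injective_iff_map_eq_zero]
  intro x hx
  refine ext_c fun n => ?_
  rw [c_zero]
  refine h n _ (c_pow n x) ?_
  rw [← c_tmap, hx, c_zero]

lemma tmap_injective' (φ : (T ⟶ A) →* (T' ⟶ A')) (h : Function.Injective φ) :
    Function.Injective (tmap (l := l) φ) :=
  tmap_injective φ fun _ _ _ hz => h (by rw [hz, map_one])

lemma tmap_surjective (φ : (T ⟶ A) →* (T' ⟶ A'))
    (h : ∀ (n : ℕ) (z : T ⟶ A), z ^ l ^ n = 1 → φ z = 1 → z = 1)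
    (h' : ∀ (n : ℕ) (z : T' ⟶ A'), z ^ l ^ n = 1 → ∃ w : T ⟶ A, w ^ l ^ n = 1 ∧ φ w = z) :
    Function.Surjective (tmap (l := l) φ) := by
  intro x
  choose w hw1 hw2 using fun n => h' n (c n x) (c_pow n x)
  refine ⟨mk w hw1 (fun n => ?_), ext_c fun n => hw2 n⟩
  rw [← mul_inv_eq_one]
  refine h n _ ?_ ?_
  · rw [mul_pow, inv_pow, hw1, inv_one, _root_.mul_one, ← pow_mul, ← pow_succ', hw1]
  · rw [map_mul, map_pow, map_inv, hw2, hw2, c_succ, mul_inv_cancel]

/-- An isomorphism of groups of points induces an isomorphism of Tate modules. -/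
def tequiv (φ : (T ⟶ A) ≃* (T' ⟶ A')) : TateMod A l T ≃ₗ[ℤ_[l]] TateMod A' l T' :=
  { tmap φ.toMonoidHom with
    invFun := tmap φ.symm.toMonoidHom
    left_inv := fun _ => ext_c fun _ => φ.symm_apply_apply _
    right_inv := fun _ => ext_c fun _ => φ.apply_symm_apply _ }

lemma c_tequiv (φ : (T ⟶ A) ≃* (T' ⟶ A')) (x : TateMod A l T) (n : ℕ) : c n (tequiv φ x) = φ (c n x) := rfl

end Padic

end General

section Alg

variable {R : Type u} [CommRing R] (𝒜 : Over (Spec (CommRingCat.of R))) [GrpObj 𝒜] [IsCommMonObj 𝒜] (l : ℕ)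
  (L : Type u) [CommRing L] [Algebra R L]

/-- The Tate module of the points of `𝒜` with values in an `R`-algebra `L`. -/
abbrev TM : Type u := TateMod 𝒜 l (sp R L)

variable {L} {L' L'' : Type u} [CommRing L'] [CommRing L''] [Algebra R L'] [Algebra R L''] [Fact l.Prime]

/-- Functoriality in the algebra. -/
def tres (f : L →ₐ[R] L') : TM 𝒜 l L →ₗ[ℤ_[l]] TM 𝒜 l L' := tmap (res 𝒜 f)

variable {𝒜 l}

lemma c_tres (f : L →ₐ[R] L') (x : TM 𝒜 l L) (n : ℕ) : c n (tres 𝒜 l f x) = res 𝒜 f (c n x) := rfl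

lemma tres_comp (f : L →ₐ[R] L') (g : L' →ₐ[R] L'') (x : TM 𝒜 l L) :
    tres 𝒜 l (g.comp f) x = tres 𝒜 l g (tres 𝒜 l f x) := ext_c fun _ => res_comp 𝒜 f g _

omit [IsCommMonObj 𝒜] in
lemma res_id (x : sp R L ⟶ 𝒜) : res 𝒜 (AlgHom.id R L) x = x := by
  ext1
  rw [res_left]
  have h : Spec.map (CommRingCat.ofHom ((AlgHom.id R L : L →ₐ[R] L) : L →+* L)) =
    𝟙 (Spec (CommRingCat.of L)) := Spec.map_id _
  rw [h, Category.id_comp]

lemma tres_id (x : TM 𝒜 l L) : tres 𝒜 l (AlgHom.id R L) x = x := ext_c fun _ => res_id _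

end Alg

end K545.TatFun

end
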